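import Cfsg.Agent.McLU43.Data
import Cfsg.Agent.J2.Perm.U33
import Cfsg.Agent.Unitary.Generation

/-!
# Six unitary matrices moving the 280 isotropic points
-/

set_option autoImplicit false
set_option maxRecDepth 100000

namespace Cfsg.Agent.McLU43

open Matrix CfsgLib.Unitary

/-- The field of nine elements. -/
abbrev K9 : Type := CfsgLib.J2.Perm.F9

/-- Decoding of an element. -/
def dec (c : ℕ) : K9 := ⟨((c % 3 : ℕ) : ZMod 3), ((c / 3 : ℕ) : ZMod 3)⟩

/-- Addition of codes. -/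
def fadd (c d : ℕ) : ℕ := (c % 3 + d % 3) % 3 + 3 * ((c / 3 + d / 3) % 3)

/-- Multiplication of codes. -/
def fmul (c d : ℕ) : ℕ :=
  (c % 3 * (d % 3) + 2 * ((c / 3) * (d / 3))) % 3 + 3 * ((c % 3 * (d / 3) + c / 3 * (d % 3)) % 3)

theorem field_ok : ∀ c d : Fin 9, dec (fadd c.val d.val) = dec c.val + dec d.val ∧
    dec (fmul c.val d.val) = dec c.val * dec d.val := by decide +kernel

theorem dec_inj' : ∀ c d : Fin 9, dec c.val = dec d.val → c = d := by decide +kernel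

theorem dec_one : dec 1 = 1 := by decide +kernel

theorem dec_zero : dec 0 = 0 := by decide +kernel

theorem fadd_lt (c d : ℕ) : fadd c d < 9 := by unfold fadd; omega

theorem fmul_lt (c d : ℕ) : fmul c d < 9 := by unfold fmul; omega

theorem dec_inj {c d : ℕ} (hc : c < 9) (hd : d < 9) (h : dec c = dec d) : c = d :=
  congrArg Fin.val (dec_inj' ⟨c, hc⟩ ⟨d, hd⟩ h)

theorem dec_add {c d : ℕ} (hc : c < 9) (hd : d < 9) : dec (fadd c d) = dec c + dec d :=
  (field_ok ⟨c, hc⟩ ⟨d, hd⟩).1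

theorem dec_mul {c d : ℕ} (hc : c < 9) (hd : d < 9) : dec (fmul c d) = dec c * dec d :=
  (field_ok ⟨c, hc⟩ ⟨d, hd⟩).2

/-- The code of a coordinate of a point. -/
def lineC (j : Fin 280) (i : ℕ) : ℕ := (ptCodes.getD j.val []).getD i 0

/-- The code of a matrix entry. -/
def uC (l : Fin 6) (i k : ℕ) : ℕ := ((uniMats.getD l.val []).getD i []).getD k 0

/-- The code of a scalar. -/
def scalC (l : Fin 6) (j : Fin 280) : ℕ := (ptScal.getD l.val []).getD j.val 0

/-- The isotropic vector of a point. -/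
def line (j : Fin 280) : Fin 4 → K9 := fun i => dec (lineC j i.val)

/-- A generating matrix. -/
def uMat (l : Fin 6) : Matrix (Fin 4) (Fin 4) K9 := Matrix.of fun i k => dec (uC l i.val k.val)

/-- The permutation of the points. -/
def pperm (l : Fin 6) (j : Fin 280) : Fin 280 := Fin.ofNat 280 ((ptPerms.getD l.val []).getD j.val 0)

/-- The scalar at a point. -/
def scal (l : Fin 6) (j : Fin 280) : K9 := dec (scalC l j)

/-- The first nonzero place. -/
def lead (j : Fin 280) : Fin 4 := Fin.ofNat 4 ((ptCodes.getD j.val []).findIdx fun c => c != 0)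

theorem lineC_lt : ∀ j : Fin 280, ∀ i : Fin 4, lineC j i.val < 9 := by decide +kernel

theorem uC_lt : ∀ l : Fin 6, ∀ i k : Fin 4, uC l i.val k.val < 9 := by decide +kernel

theorem scalC_ok : ∀ l : Fin 6, ∀ j : Fin 280, scalC l j < 9 ∧ scalC l j ≠ 0 := by decide +kernel

theorem actC : ∀ l : Fin 6, ∀ j : Fin 280, ∀ i : Fin 4,
    fadd (fadd (fadd (fmul (uC l i.val 0) (lineC j 0)) (fmul (uC l i.val 1) (lineC j 1)))
      (fmul (uC l i.val 2) (lineC j 2))) (fmul (uC l i.val 3) (lineC j 3)) =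
        fmul (scalC l j) (lineC (pperm l j) i.val) := by decide +kernel

theorem leadC : ∀ j : Fin 280, lineC j (lead j).val = 1 ∧ ∀ i : Fin 4, i < lead j → lineC j i.val = 0 := by
  decide +kernel

/-- The code of a point as one number. -/
def key (j : Fin 280) : ℕ := ((lineC j 0 * 9 + lineC j 1) * 9 + lineC j 2) * 9 + lineC j 3

theorem key_inj : ∀ a b : Fin 280, key a = key b → a = b := by decide +kernel

theorem det_four (M : Matrix (Fin 4) (Fin 4) K9) : M.det =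
    M 0 0 * (M 1 1 * (M 2 2 * M 3 3 - M 2 3 * M 3 2) - M 1 2 * (M 2 1 * M 3 3 - M 2 3 * M 3 1) +
      M 1 3 * (M 2 1 * M 3 2 - M 2 2 * M 3 1)) -
    M 0 1 * (M 1 0 * (M 2 2 * M 3 3 - M 2 3 * M 3 2) - M 1 2 * (M 2 0 * M 3 3 - M 2 3 * M 3 0) +
      M 1 3 * (M 2 0 * M 3 2 - M 2 2 * M 3 0)) +
    M 0 2 * (M 1 0 * (M 2 1 * M 3 3 - M 2 3 * M 3 1) - M 1 1 * (M 2 0 * M 3 3 - M 2 3 * M 3 0) +
      M 1 3 * (M 2 0 * M 3 1 - M 2 1 * M 3 0)) -
    M 0 3 * (M 1 0 * (M 2 1 * M 3 2 - M 2 2 * M 3 1) - M 1 1 * (M 2 0 * M 3 2 - M 2 2 * M 3 0) +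
      M 1 2 * (M 2 0 * M 3 1 - M 2 1 * M 3 0)) := by
  simp [Matrix.det_succ_row_zero, Fin.sum_univ_succ, Fin.succAbove]
  ring

theorem det_ok : ∀ l : Fin 6,
    (let M := uMat l
    M 0 0 * (M 1 1 * (M 2 2 * M 3 3 - M 2 3 * M 3 2) - M 1 2 * (M 2 1 * M 3 3 - M 2 3 * M 3 1) +
      M 1 3 * (M 2 1 * M 3 2 - M 2 2 * M 3 1)) -
    M 0 1 * (M 1 0 * (M 2 2 * M 3 3 - M 2 3 * M 3 2) - M 1 2 * (M 2 0 * M 3 3 - M 2 3 * M 3 0) +
      M 1 3 * (M 2 0 * M 3 2 - M 2 2 * M 3 0)) +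
    M 0 2 * (M 1 0 * (M 2 1 * M 3 3 - M 2 3 * M 3 1) - M 1 1 * (M 2 0 * M 3 3 - M 2 3 * M 3 0) +
      M 1 3 * (M 2 0 * M 3 1 - M 2 1 * M 3 0)) -
    M 0 3 * (M 1 0 * (M 2 1 * M 3 2 - M 2 2 * M 3 1) - M 1 1 * (M 2 0 * M 3 2 - M 2 2 * M 3 0) +
      M 1 2 * (M 2 0 * M 3 1 - M 2 1 * M 3 0))) = 1 := by decide +kernel

theorem uMat_det (l : Fin 6) : (uMat l).det = 1 := (det_four _).trans (det_ok l)

theorem uMat_unitary : ∀ l : Fin 6, ∀ k m : Fin 4,
    uMat l 0 k * uMat l 0 m ^ 3 + uMat l 1 k * uMat l 1 m ^ 3 + uMat l 2 k * uMat l 2 m ^ 3 +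
      uMat l 3 k * uMat l 3 m ^ 3 = if k = m then 1 else 0 := by decide +kernel

theorem scal_ne (l : Fin 6) (j : Fin 280) : scal l j ≠ 0 := fun h =>
  (scalC_ok l j).2 (dec_inj (scalC_ok l j).1 (by norm_num) (h.trans dec_zero.symm))

theorem act_ok (l : Fin 6) (j : Fin 280) (i : Fin 4) :
    uMat l i 0 * line j 0 + uMat l i 1 * line j 1 + uMat l i 2 * line j 2 + uMat l i 3 * line j 3 =
      scal l j * line (pperm l j) i := by
  have h := congrArg dec (actC l j i)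
  rw [dec_mul (scalC_ok l j).1 (lineC_lt _ i), dec_add (fadd_lt _ _) (fmul_lt _ _),
    dec_add (fadd_lt _ _) (fmul_lt _ _), dec_add (fmul_lt _ _) (fmul_lt _ _),
    dec_mul (show uC l i.val 0 < 9 from uC_lt l i 0) (show lineC j 0 < 9 from lineC_lt j 0), dec_mul (show uC l i.val 1 < 9 from uC_lt l i 1) (show lineC j 1 < 9 from lineC_lt j 1),
    dec_mul (show uC l i.val 2 < 9 from uC_lt l i 2) (show lineC j 2 < 9 from lineC_lt j 2), dec_mul (show uC l i.val 3 < 9 from uC_lt l i 3) (show lineC j 3 < 9 from lineC_lt j 3)] at h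
  exact h

theorem lead_one (j : Fin 280) : line j (lead j) = 1 := by rw [line, (leadC j).1, dec_one]

theorem lead_zero {j : Fin 280} {i : Fin 4} (h : i < lead j) : line j i = 0 := by
  rw [line, (leadC j).2 i h, dec_zero]

theorem uMat_mem (l : Fin 6) :
    (⟨uMat l, uMat_det l⟩ : Matrix.SpecialLinearGroup (Fin 4) K9) ∈ Cfsg.SU 4 K9 3 := by
  intro u v
  show Cfsg.hermForm 4 K9 3 (uMat l *ᵥ u) (uMat l *ᵥ v) = Cfsg.hermForm 4 K9 3 u v
  have h00 := uMat_unitary l 0 0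
  have h01 := uMat_unitary l 0 1
  have h02 := uMat_unitary l 0 2
  have h03 := uMat_unitary l 0 3
  have h10 := uMat_unitary l 1 0
  have h11 := uMat_unitary l 1 1
  have h12 := uMat_unitary l 1 2
  have h13 := uMat_unitary l 1 3
  have h20 := uMat_unitary l 2 0
  have h21 := uMat_unitary l 2 1
  have h22 := uMat_unitary l 2 2
  have h23 := uMat_unitary l 2 3
  have h30 := uMat_unitary l 3 0
  have h31 := uMat_unitary l 3 1
  have h32 := uMat_unitary l 3 2
  have h33 := uMat_unitary l 3 3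
  simp only [Fin.reduceEq, if_true, if_false] at h00 h01 h02 h03 h10 h11 h12 h13 h20 h21 h22 h23 h30 h31 h32 h33
  simp only [Cfsg.hermForm, Matrix.mulVec, dotProduct, Fin.sum_univ_four, CfsgLib.J2.Perm.cube_add, mul_pow]
  linear_combination u 0 * v 0 ^ 3 * h00 + u 0 * v 1 ^ 3 * h01 + u 0 * v 2 ^ 3 * h02 + u 0 * v 3 ^ 3 * h03 +
    u 1 * v 0 ^ 3 * h10 + u 1 * v 1 ^ 3 * h11 + u 1 * v 2 ^ 3 * h12 + u 1 * v 3 ^ 3 * h13 +
    u 2 * v 0 ^ 3 * h20 + u 2 * v 1 ^ 3 * h21 + u 2 * v 2 ^ 3 * h22 + u 2 * v 3 ^ 3 * h23 +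
    u 3 * v 0 ^ 3 * h30 + u 3 * v 1 ^ 3 * h31 + u 3 * v 2 ^ 3 * h32 + u 3 * v 3 ^ 3 * h33

/-- A generator of the unitary group. -/
def uGen (l : Fin 6) : Cfsg.SU 4 K9 3 := ⟨⟨uMat l, uMat_det l⟩, uMat_mem l⟩

theorem uGen_line (l : Fin 6) (j : Fin 280) :
    suMat (uGen l) *ᵥ line j = scal l j • line (pperm l j) := by
  funext i
  show (uMat l *ᵥ line j) i = _
  simpa [Matrix.mulVec, dotProduct, Fin.sum_univ_four] using act_ok l j i

theorem line_smul_inj {a b : Fin 280} {c : K9} (h : line a = c • line b) : a = b := by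
  have hk : ∀ i, line a i = c * line b i := fun i => congrFun h i
  have hl : lead a = lead b := by
    rcases lt_trichotomy (lead a) (lead b) with hlt | heq | hgt
    · have h1 := hk (lead a)
      rw [lead_one, lead_zero hlt, mul_zero] at h1
      exact absurd h1 one_ne_zero
    · exact heq
    · have h1 := hk (lead b)
      rw [lead_zero hgt, lead_one, mul_one] at h1
      have h2 := hk (lead a)
      rw [lead_one, ← h1, zero_mul] at h2
      exact absurd h2 one_ne_zero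
  have hc : c = 1 := by
    have h1 := hk (lead a)
    rw [lead_one, hl, lead_one, mul_one] at h1
    exact h1.symm
  refine key_inj a b ?_
  have e : ∀ i : Fin 4, lineC a i.val = lineC b i.val := fun i =>
    dec_inj (lineC_lt a i) (lineC_lt b i) (by rw [← show line a i = dec _ from rfl, hk i, hc, one_mul]; rfl)
  unfold key
  rw [show lineC a 0 = lineC b 0 from e 0, show lineC a 1 = lineC b 1 from e 1,
    show lineC a 2 = lineC b 2 from e 2, show lineC a 3 = lineC b 3 from e 3]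

theorem quad_three {A B C x y z : K9} (hxy : x ≠ y) (hxz : x ≠ z) (hyz : y ≠ z)
    (h1 : A * x * x + B * x + C = 0) (h2 : A * y * y + B * y + C = 0) (h3 : A * z * z + B * z + C = 0) :
    A = 0 ∧ B = 0 ∧ C = 0 := by
  have e1 : (x - y) * (A * (x + y) + B) = 0 := by linear_combination h1 - h2
  have e2 : (x - z) * (A * (x + z) + B) = 0 := by linear_combination h1 - h3
  have f1 := (mul_eq_zero.mp e1).resolve_left (sub_ne_zero.mpr hxy)
  have f2 := (mul_eq_zero.mp e2).resolve_left (sub_ne_zero.mpr hxz)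
  have hA : A = 0 := (mul_eq_zero.mp (show (y - z) * A = 0 by linear_combination f1 - f2)).resolve_left
    (sub_ne_zero.mpr hyz)
  have hB : B = 0 := by rw [hA] at f1; linear_combination f1
  exact ⟨hA, hB, by rw [hA, hB] at h1; linear_combination h1⟩

theorem two_lin {X Y s t : K9} (hst : s ≠ t) (h1 : X + s * Y = 0) (h2 : X + t * Y = 0) : X = 0 ∧ Y = 0 := by
  have hY : Y = 0 := (mul_eq_zero.mp (show (s - t) * Y = 0 by linear_combination h1 - h2)).resolve_left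
    (sub_ne_zero.mpr hst)
  exact ⟨by rw [hY] at h1; linear_combination h1, hY⟩

theorem plane_ok : (∀ i, line 3 i = ![1, dec 4, 0, 0] i) ∧ (∀ i, line 15 i = ![1, dec 8, 0, 0] i) ∧
    (∀ i, line 21 i = ![1, dec 7, 0, 0] i) ∧
    (∀ i, line 67 i = ![0, 1, dec 7, 0] i) ∧ (∀ i, line 154 i = ![0, 1, dec 5, 0] i) ∧
    (∀ i, line 255 i = ![0, 1, dec 8, 0] i) ∧
    (∀ i, line 0 i = ![0, 0, 1, dec 4] i) ∧ (∀ i, line 10 i = ![0, 0, 1, dec 5] i) ∧
    (∀ i, line 25 i = ![0, 0, 1, dec 7] i) := by decide +kernel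

/-- A matrix fixing all the lines is scalar. -/
theorem scalar_of_fix {M : Matrix (Fin 4) (Fin 4) K9} (h : ∀ j, ∃ c : K9, M *ᵥ line j = c • line j) :
    M = M 0 0 • (1 : Matrix (Fin 4) (Fin 4) K9) := by
  obtain ⟨p1, p2, p3, q1, q2, q3, r1, r2, r3⟩ := plane_ok
  have planeA : ∀ (j : Fin 280) (t : K9), (∀ i, line j i = ![1, t, 0, 0] i) →
      M 2 0 + t * M 2 1 = 0 ∧ M 3 0 + t * M 3 1 = 0 ∧
        M 0 1 * t * t + (M 0 0 - M 1 1) * t + -M 1 0 = 0 := by
    intro j t hj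
    obtain ⟨c, hc⟩ := h j
    rw [funext hj] at hc
    have e0 := congrFun hc 0
    have e1 := congrFun hc 1
    have e2 := congrFun hc 2
    have e3 := congrFun hc 3
    simp [Matrix.mulVec, dotProduct, Fin.sum_univ_four] at e0 e1 e2 e3
    refine ⟨by linear_combination e2, by linear_combination e3, ?_⟩
    rw [← e0] at e1
    linear_combination -e1
  have planeB : ∀ (j : Fin 280) (t : K9), (∀ i, line j i = ![0, 1, t, 0] i) →
      M 0 1 + t * M 0 2 = 0 ∧ M 3 1 + t * M 3 2 = 0 ∧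
        M 1 2 * t * t + (M 1 1 - M 2 2) * t + -M 2 1 = 0 := by
    intro j t hj
    obtain ⟨c, hc⟩ := h j
    rw [funext hj] at hc
    have e0 := congrFun hc 0
    have e1 := congrFun hc 1
    have e2 := congrFun hc 2
    have e3 := congrFun hc 3
    simp [Matrix.mulVec, dotProduct, Fin.sum_univ_four] at e0 e1 e2 e3
    refine ⟨by linear_combination e0, by linear_combination e3, ?_⟩
    rw [← e1] at e2
    linear_combination -e2
  have planeC : ∀ (j : Fin 280) (t : K9), (∀ i, line j i = ![0, 0, 1, t] i) →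
      M 0 2 + t * M 0 3 = 0 ∧ M 1 2 + t * M 1 3 = 0 ∧
        M 2 3 * t * t + (M 2 2 - M 3 3) * t + -M 3 2 = 0 := by
    intro j t hj
    obtain ⟨c, hc⟩ := h j
    rw [funext hj] at hc
    have e0 := congrFun hc 0
    have e1 := congrFun hc 1
    have e2 := congrFun hc 2
    have e3 := congrFun hc 3
    simp [Matrix.mulVec, dotProduct, Fin.sum_univ_four] at e0 e1 e2 e3
    refine ⟨by linear_combination e0, by linear_combination e1, ?_⟩
    rw [← e2] at e3
    linear_combination -e3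
  obtain ⟨a1, b1, c1⟩ := planeA 3 _ p1
  obtain ⟨a2, b2, c2⟩ := planeA 15 _ p2
  obtain ⟨-, -, c3⟩ := planeA 21 _ p3
  obtain ⟨d1, e1, f1⟩ := planeB 67 _ q1
  obtain ⟨d2, e2, f2⟩ := planeB 154 _ q2
  obtain ⟨-, -, f3⟩ := planeB 255 _ q3
  obtain ⟨g1, k1, n1⟩ := planeC 0 _ r1
  obtain ⟨g2, k2, n2⟩ := planeC 10 _ r2
  obtain ⟨-, -, n3⟩ := planeC 25 _ r3
  obtain ⟨h20, h21⟩ := two_lin (show dec 4 ≠ dec 8 by decide +kernel) a1 a2
  obtain ⟨h30, h31⟩ := two_lin (show dec 4 ≠ dec 8 by decide +kernel) b1 b2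
  obtain ⟨-, h02⟩ := two_lin (show dec 7 ≠ dec 5 by decide +kernel) d1 d2
  obtain ⟨-, h32'⟩ := two_lin (show dec 7 ≠ dec 5 by decide +kernel) e1 e2
  obtain ⟨-, h03⟩ := two_lin (show dec 4 ≠ dec 5 by decide +kernel) g1 g2
  obtain ⟨-, h13⟩ := two_lin (show dec 4 ≠ dec 5 by decide +kernel) k1 k2
  obtain ⟨h01, hd, h10⟩ := quad_three (show dec 4 ≠ dec 8 by decide +kernel)
    (show dec 4 ≠ dec 7 by decide +kernel) (show dec 8 ≠ dec 7 by decide +kernel) c1 c2 c3
  obtain ⟨h12, hd', -⟩ := quad_three (show dec 7 ≠ dec 5 by decide +kernel)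
    (show dec 7 ≠ dec 8 by decide +kernel) (show dec 5 ≠ dec 8 by decide +kernel) f1 f2 f3
  obtain ⟨h23, hd'', -⟩ := quad_three (show dec 4 ≠ dec 5 by decide +kernel)
    (show dec 4 ≠ dec 7 by decide +kernel) (show dec 5 ≠ dec 7 by decide +kernel) n1 n2 n3
  have h11 : M 1 1 = M 0 0 := (sub_eq_zero.mp hd).symm
  have h22 : M 2 2 = M 0 0 := by rw [← h11]; exact (sub_eq_zero.mp hd').symm
  have h33 : M 3 3 = M 0 0 := by rw [← h22]; exact (sub_eq_zero.mp hd'').symm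
  have h10' : M 1 0 = 0 := neg_eq_zero.mp h10
  refine Matrix.ext fun i k => ?_
  fin_cases i <;> fin_cases k <;>
    simp [h01, h10', h12, h21, h20, h02, h30, h31, h32', h03, h13, h23, h11, h22, h33]

end Cfsg.Agent.McLU43
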