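import Cfsg.Agent.McLU43.LatMat
import Cfsg.Agent.McLU43.Unitary
import Cfsg.Agent.U33Degrees.Transfer

/-!
# The point stabiliser of the rank three group on 275 points
-/

set_option autoImplicit false
set_option maxRecDepth 100000
set_option linter.style.haveILetI false

namespace Cfsg.Agent.McLU43

open Cfsg CfsgLib CfsgLib.Golay CfsgLib.Unitary MulAction McLSimple Matrix

attribute [local irreducible] CfsgLib.Leech.shortVecs CfsgLib.Leech.halfTable CfsgLib.Leech.quarterTable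

/-- A member of a quadruple. -/
def qmem (j : Fin 280) (i : Fin 4) : Fin 112 := Fin.ofNat 112 ((quads.getD j.val []).getD i.val 0)

/-- The quadruple as one number. -/
def qkey (j : Fin 280) : ℕ := (((qmem j 0).val * 112 + (qmem j 1).val) * 112 + (qmem j 2).val) * 112 + (qmem j 3).val

theorem qmem_lt : ∀ j : Fin 280, ∀ a b : Fin 4, a < b → qmem j a < qmem j b := by decide +kernel

theorem qkey_lt : ∀ j : Fin 279, qkey j.castSucc < qkey j.succ := by decide +kernel

theorem qperm_ok : ∀ l : Fin 6, ∀ j : Fin 280, ∀ i : Fin 4,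
    ∃ i' : Fin 4, vperm l (qmem j i) = qmem (pperm l j) i' := by decide +kernel

theorem mono_id : ∀ g : Fin 4 → Fin 4, (∀ a b, a < b → g a < g b) → ∀ a, g a = a := by decide +kernel

theorem quad_eq {j q : Fin 280} (h : ∀ i, ∃ i', qmem j i = qmem q i') : j = q := by
  choose g hg using h
  have hq : StrictMono (qmem q) := fun a b hab => qmem_lt q a b hab
  have hid := mono_id g fun a b hab => hq.lt_iff_lt.mp (by rw [← hg, ← hg]; exact qmem_lt j a b hab)
  have hk : qkey j = qkey q := by simp only [qkey, hg, hid]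
  exact (Fin.strictMono_iff_lt_succ (f := qkey)).mpr qkey_lt |>.injective hk

/-- The point stabiliser. -/
def S0 : Subgroup Co0 := mclStab ⊓ stabilizer Co0 third

theorem third_mem : third ∈ xSet := by
  show InX (ofL thirdVec)
  rw [inX_iff]
  decide +kernel

theorem card_S0 : Nat.card S0 = 3265920 := by
  have h := (stabilizer mclStab third).card_mul_index
  rw [index_stabilizer, orbit_eq_xSet third_mem, ncard_xSet, card_mclStab] at h
  have e : Nat.card S0 = Nat.card (stabilizer mclStab third) :=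
    Nat.card_congr
      { toFun := fun k => ⟨⟨k, k.2.1⟩, k.2.2⟩
        invFun := fun k => ⟨k.1, k.1.2, k.2⟩
        left_inv := fun _ => rfl
        right_inv := fun _ => rfl }
  omega

local notation "SU4" => Cfsg.SU 4 K9 3

theorem card_psu : Nat.card (Cfsg.PSU 4 K9 3) = 3265920 := by
  have h := card_PSU_mul CfsgLib.J2.Perm.hF (n := 4) (by norm_num)
  rw [card_GU CfsgLib.J2.Perm.hF 4] at h
  norm_num [Finset.prod_range_succ, Nat.even_iff] at h
  rw [show Cfsg.PSU 4 K9 3 = Cfsg.PSU 4 CfsgLib.J2.Perm.F9 3 from rfl]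
  omega

/-- Compatible pairs. -/
def Compat (x : Co0 × SU4) : Prop :=
  x.1 ∈ S0 ∧ ∀ j : Fin 280, ∃ (q : Fin 280) (c : K9), c ≠ 0 ∧
    (∀ i, ∃ i', x.1 • sub (qmem j i) = sub (qmem q i')) ∧ suMat x.2 *ᵥ line j = c • line q

theorem Compat.mul' {x y : Co0 × SU4} (hx : Compat x) (hy : Compat y) : Compat (x * y) := by
  refine ⟨mul_mem hx.1 hy.1, fun j => ?_⟩
  obtain ⟨a, c, hc, hp, hv⟩ := hy.2 j
  obtain ⟨b, d, hd, hp', hv'⟩ := hx.2 a
  refine ⟨b, c * d, mul_ne_zero hc hd, fun i => ?_, ?_⟩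
  · obtain ⟨i', hi⟩ := hp i
    obtain ⟨i'', hi'⟩ := hp' i'
    exact ⟨i'', by rw [Prod.fst_mul, mul_smul, hi, hi']⟩
  · rw [Prod.snd_mul, suMat_mul, ← Matrix.mulVec_mulVec, hv, Matrix.mulVec_smul, hv', smul_smul]

theorem compat_one : Compat (1 : Co0 × SU4) :=
  ⟨one_mem _, fun j => ⟨j, 1, one_ne_zero, fun i => ⟨i, one_smul _ _⟩, by simp [suMat_one]⟩⟩

theorem compat_gen (l : Fin 6) : Compat (gen l, uGen l) := by
  refine ⟨⟨gen_mem_mclStab l, gen_third l⟩, fun j => ⟨pperm l j, scal l j, scal_ne l j, fun i => ?_,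
    uGen_line l j⟩⟩
  obtain ⟨i', hi⟩ := qperm_ok l j i
  exact ⟨i', by rw [gen_sub, hi]⟩

/-- Follow a word. -/
def follow : List ℕ → Fin 280 → Fin 280
  | [], j => j
  | k :: w, j => pperm (Fin.ofNat 6 k) (follow w j)

/-- The word of a step of the chain. -/
def wordA (i : Fin 280) : List ℕ := chainA.getD i.val []

/-- The word of a step of the chain. -/
def wordB (i : Fin 243) : List ℕ := chainB.getD i.val []

/-- The word of a step of the chain. -/
def wordC (i : Fin 48) : List ℕ := chainC.getD i.val []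

theorem chainA_ok : ∀ i : Fin 279, follow (wordA i.castSucc) 0 < follow (wordA i.succ) 0 := by decide +kernel

theorem chainB_ok : (∀ i : Fin 243, follow (wordB i) 0 = 0) ∧
    ∀ i : Fin 242, follow (wordB i.castSucc) 10 < follow (wordB i.succ) 10 := by decide +kernel

theorem chainC_ok : (∀ i : Fin 48, follow (wordC i) 0 = 0 ∧ follow (wordC i) 10 = 10) ∧
    ∀ i : Fin 47, follow (wordC i.castSucc) 40 < follow (wordC i.succ) 40 := by decide +kernel

theorem chainA_inj {a b : Fin 280} (h : follow (wordA a) 0 = follow (wordA b) 0) : a = b :=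
  ((Fin.strictMono_iff_lt_succ (f := fun i : Fin 280 => follow (wordA i) 0)).mpr chainA_ok).injective h

theorem chainB_inj {a b : Fin 243} (h : follow (wordB a) 10 = follow (wordB b) 10) : a = b :=
  ((Fin.strictMono_iff_lt_succ (f := fun i : Fin 243 => follow (wordB i) 10)).mpr chainB_ok.2).injective h

theorem chainC_inj {a b : Fin 48} (h : follow (wordC a) 40 = follow (wordC b) 40) : a = b :=
  ((Fin.strictMono_iff_lt_succ (f := fun i : Fin 48 => follow (wordC i) 40)).mpr chainC_ok.2).injective h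

theorem nonempty_equiv : Nonempty (S0 ≃* Cfsg.PSU 4 K9 3) := by
  classical
  set gx : Fin 6 → Co0 × SU4 := fun l => (gen l, uGen l) with hgx
  set Γ : Subgroup (Co0 × SU4) := Subgroup.closure (Set.range gx) with hΓ
  haveI : Finite Co0 := inferInstance
  have hcompat : ∀ x ∈ Γ, Compat x := by
    intro x hx
    have h : x ∈ Submonoid.closure (Set.range gx) := by
      rw [← Subgroup.closure_toSubmonoid_of_finite]; exact hx
    induction h using Submonoid.closure_induction with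
    | mem y hy => obtain ⟨l, rfl⟩ := hy; exact compat_gen l
    | one => exact compat_one
    | mul a b ha hb iha ihb =>
      exact (iha (Subgroup.le_closure_toSubmonoid _ ha)).mul' (ihb (Subgroup.le_closure_toSubmonoid _ hb))
  set K : Subgroup Co0 := Γ.map (MonoidHom.fst Co0 SU4) with hK
  set H : Subgroup SU4 := Γ.map (MonoidHom.snd Co0 SU4) with hH
  have hKle : K ≤ S0 := by
    rintro _ ⟨x, hx, rfl⟩
    exact (hcompat x hx).1
  let π : SU4 →* Cfsg.PSU 4 K9 3 := QuotientGroup.mk' (Subgroup.center SU4)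
  have hwell : ∀ s : SU4, ((1 : Co0), s) ∈ Γ → π s = 1 := by
    intro s hs
    refine (QuotientGroup.eq_one_iff _).mpr
      ((mem_center_SU_iff CfsgLib.J2.Perm.hF (by norm_num)).mpr ⟨_, scalar_of_fix fun j => ?_⟩)
    obtain ⟨q, c, -, hp, hv⟩ := (hcompat _ hs).2 j
    have hjq : j = q := quad_eq fun i => by
      obtain ⟨i', hi⟩ := hp i
      rw [one_smul] at hi
      exact ⟨i', sub_injective hi⟩
    exact ⟨c, by rw [hjq]; rw [hjq] at hv; exact hv⟩
  have hex : ∀ k : K, ∃ s : SU4, ((k : Co0), s) ∈ Γ := by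
    rintro ⟨_, ⟨a, b⟩, hab, rfl⟩
    exact ⟨b, hab⟩
  choose sf hsf using hex
  have hθ : ∀ (k : K) (s : SU4), ((k : Co0), s) ∈ Γ → π (sf k) = π s := by
    intro k s hs
    have := hwell _ (by
      have := mul_mem (inv_mem (hsf k)) hs
      rwa [Prod.inv_mk, Prod.mk_mul_mk, inv_mul_cancel] at this : ((1 : Co0), (sf k)⁻¹ * s) ∈ Γ)
    rwa [map_mul, map_inv, inv_mul_eq_one] at this
  let θ : K →* Cfsg.PSU 4 K9 3 := MonoidHom.mk' (fun k => π (sf k)) (fun a b => by
    rw [← map_mul]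
    exact hθ (a * b) _ (by
      have := mul_mem (hsf a) (hsf b)
      rwa [Prod.mk_mul_mk] at this))
  have hword : ∀ w : List ℕ, ∃ h ∈ H, ∀ j, ∃ c : K9, c ≠ 0 ∧ suMat h *ᵥ line j = c • line (follow w j) := by
    intro w
    induction w with
    | nil => exact ⟨1, one_mem _, fun j => ⟨1, one_ne_zero, by simp [follow, suMat_one]⟩⟩
    | cons k w ih =>
      obtain ⟨h, hh, hhl⟩ := ih
      refine ⟨(gx (Fin.ofNat 6 k)).2 * h, mul_mem ⟨gx _, Subgroup.subset_closure ⟨_, rfl⟩, rfl⟩ hh, fun j => ?_⟩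
      obtain ⟨c, hc, hcl⟩ := hhl j
      exact ⟨c * scal (Fin.ofNat 6 k) (follow w j), mul_ne_zero hc (scal_ne _ _), by
        rw [suMat_mul, ← Matrix.mulVec_mulVec, hcl, Matrix.mulVec_smul]
        show c • (suMat (uGen _) *ᵥ _) = _
        rw [uGen_line, smul_smul]
        rfl⟩
  have huniq : ∀ {s t : SU4} {j a b : Fin 280} {c d : K9}, π s = π t → d ≠ 0 →
      suMat s *ᵥ line j = c • line a → suMat t *ᵥ line j = d • line b → b = a := by
    intro s t j a b c d hst hd h1 h2
    obtain ⟨z, hz⟩ := (mem_center_SU_iff CfsgLib.J2.Perm.hF (by norm_num)).mp (QuotientGroup.eq.mp hst)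
    have ht : suMat t *ᵥ line j = (z * c) • line a := by
      have e : suMat t = suMat s * suMat (s⁻¹ * t) := by rw [← suMat_mul, mul_inv_cancel_left]
      rw [e, show suMat (s⁻¹ * t) = z • 1 from hz, Matrix.mul_smul, mul_one, Matrix.smul_mulVec, h1, smul_smul]
    refine line_smul_inj (c := d⁻¹ * (z * c)) ?_
    rw [← smul_smul, ← ht, h2, smul_smul, inv_mul_cancel₀ hd, one_smul]
  choose aw ha hal using fun i : Fin 280 => hword (wordA i)
  choose bw hb hbl using fun i : Fin 243 => hword (wordB i)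
  choose cw hc hcl using fun i : Fin 48 => hword (wordC i)
  have hprod : ∀ {s t : SU4} {w w' : List ℕ}, (∀ j, ∃ c : K9, c ≠ 0 ∧ suMat s *ᵥ line j = c • line (follow w j)) →
      (∀ j, ∃ c : K9, c ≠ 0 ∧ suMat t *ᵥ line j = c • line (follow w' j)) → ∀ j, ∃ c : K9, c ≠ 0 ∧
        suMat (s * t) *ᵥ line j = c • line (follow w (follow w' j)) := by
    intro s t w w' hs ht j
    obtain ⟨c, hc, h1⟩ := ht j
    obtain ⟨d, hd, h2⟩ := hs (follow w' j)
    exact ⟨c * d, mul_ne_zero hc hd, by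
      rw [suMat_mul, ← Matrix.mulVec_mulVec, h1, Matrix.mulVec_smul, h2, smul_smul]⟩
  let f : Fin 280 × Fin 243 × Fin 48 → H.map π := fun p =>
    ⟨π (aw p.1 * (bw p.2.1 * cw p.2.2)), Subgroup.mem_map_of_mem π (mul_mem (ha _) (mul_mem (hb _) (hc _)))⟩
  have hf : Function.Injective f := by
    rintro ⟨i, k, m⟩ ⟨i', k', m'⟩ h
    have h' : π (aw i * (bw k * cw m)) = π (aw i' * (bw k' * cw m')) := congrArg Subtype.val h
    have hbc : ∀ (k : Fin 243) (m : Fin 48), ∃ c : K9, c ≠ 0 ∧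
        suMat (bw k * cw m) *ᵥ line 0 = c • line 0 := fun k m => by
      obtain ⟨c, hc, e⟩ := hprod (hbl k) (hcl m) 0
      exact ⟨c, hc, by rw [e, (chainC_ok.1 m).1, chainB_ok.1]⟩
    obtain ⟨c, -, e1⟩ := hbc k m
    obtain ⟨c', hc', e2⟩ := hbc k' m'
    obtain ⟨d, -, d1⟩ := hal i 0
    obtain ⟨d', hd', d2⟩ := hal i' 0
    obtain rfl : i' = i := chainA_inj (huniq h' (mul_ne_zero hc' hd')
      (by rw [suMat_mul, ← Matrix.mulVec_mulVec, e1, Matrix.mulVec_smul, d1, smul_smul])
      (by rw [suMat_mul, ← Matrix.mulVec_mulVec, e2, Matrix.mulVec_smul, d2, smul_smul]))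
    rw [map_mul, map_mul π (aw i'), mul_right_inj] at h'
    obtain ⟨c, -, e1⟩ := hprod (hbl k) (hcl m) 10
    obtain ⟨c', hc', e2⟩ := hprod (hbl k') (hcl m') 10
    rw [(chainC_ok.1 m).2] at e1
    rw [(chainC_ok.1 m').2] at e2
    obtain rfl : k' = k := chainB_inj (huniq h' hc' e1 e2)
    rw [map_mul, map_mul π (bw k'), mul_right_inj] at h'
    obtain ⟨c, -, e1⟩ := hcl m 40
    obtain ⟨c', hc', e2⟩ := hcl m' 40
    obtain rfl : m' = m := chainC_inj (huniq h' hc' e1 e2)
    rfl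
  haveI : Finite (Cfsg.PSU 4 K9 3) := Nat.finite_of_card_ne_zero (by rw [card_psu]; norm_num)
  have htop : H.map π = ⊤ := by
    refine Subgroup.eq_top_of_le_card _ ?_
    rw [card_psu]
    refine le_of_eq_of_le ?_ (Nat.card_le_card_of_injective f hf)
    simp only [Nat.card_eq_fintype_card, Fintype.card_prod, Fintype.card_fin]
  have hsurj : Function.Surjective θ := by
    intro t
    obtain ⟨_, ⟨⟨k, s⟩, hks, rfl⟩, rfl⟩ : t ∈ H.map π := htop ▸ Subgroup.mem_top t
    exact ⟨⟨k, ⟨(k, s), hks, rfl⟩⟩, hθ ⟨k, _⟩ s hks⟩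
  have hge : Nat.card S0 ≤ Nat.card K := by
    rw [card_S0, ← card_psu]
    exact Nat.card_le_card_of_surjective θ hsurj
  have hKeq : K = S0 := Subgroup.eq_of_le_of_card_ge hKle hge
  have hbij : Function.Bijective θ := (Nat.bijective_iff_surjective_and_card θ).mpr ⟨hsurj, by
    rw [card_psu, ← card_S0, hKeq]⟩
  exact ⟨(MulEquiv.subgroupCongr hKeq.symm).trans (MulEquiv.ofBijective θ hbij)⟩

/-- The point stabiliser for any configuration. -/
theorem main {u v x : leechLattice} (hu : sqNorm (u : GolayPt → ℤ) = 48)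
    (hv : sqNorm (v : GolayPt → ℤ) = 32 ∧ sqNorm ((u - v : leechLattice) : GolayPt → ℤ) = 32)
    (hxm : Conf275 u v x) (F : Type) [Field F] [Fintype F] (hF : Fintype.card F = 9) :
    Nonempty (↥(stabilizer Co0 u ⊓ stabilizer Co0 v ⊓ stabilizer Co0 x) ≃* Cfsg.PSU 4 F 3) := by
  obtain ⟨g, hk, hx⟩ := exists_std275 hu hv
  obtain ⟨a, ha⟩ : g • x ∈ orbit mclStab third := by rw [orbit_eq_xSet third_mem]; exact (hx x).mp hxm
  obtain ⟨E⟩ := nonempty_equiv
  set t : Co0 := (a : Co0)⁻¹ * g with ht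
  have htx : t • x = third := by
    rw [ht, mul_smul, ← ha]
    exact inv_smul_smul _ third
  have hconj : ∀ k : Co0, k ∈ stabilizer Co0 u ⊓ stabilizer Co0 v ⊓ stabilizer Co0 x ↔
      t * k * t⁻¹ ∈ S0 := by
    intro k
    show (k ∈ stabilizer Co0 u ∧ k ∈ stabilizer Co0 v) ∧ k ∈ stabilizer Co0 x ↔
      t * k * t⁻¹ ∈ mclStab ∧ t * k * t⁻¹ ∈ stabilizer Co0 third
    refine and_congr ?_ ?_
    · rw [show t * k * t⁻¹ = (a : Co0)⁻¹ * (g * k * g⁻¹) * (a : Co0) by simp [ht, mul_assoc],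
        mclStab.mul_mem_cancel_right a.2, mclStab.mul_mem_cancel_left (inv_mem a.2), hk]
      simp [mul_assoc, mem_stabilizer_iff]
    · rw [mem_stabilizer_iff, mem_stabilizer_iff, ← htx, mul_smul, mul_smul, inv_smul_smul,
        smul_left_cancel_iff]
  exact ⟨(({
    toFun := fun k => ⟨t * k * t⁻¹, (hconj k).mp k.2⟩
    invFun := fun k => ⟨t⁻¹ * k * t, (hconj _).mpr (by simp [mul_assoc])⟩
    left_inv := fun k => Subtype.ext (by simp [mul_assoc])
    right_inv := fun k => Subtype.ext (by simp [mul_assoc])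
    map_mul' := fun a b => Subtype.ext (by simp [mul_assoc]) } :
    ↥(stabilizer Co0 u ⊓ stabilizer Co0 v ⊓ stabilizer Co0 x) ≃* S0).trans E).trans
    (CfsgLib.U33Deg.psuCongr (FiniteField.ringEquivOfCardEq (K := K9) (K' := F)
      (by rw [CfsgLib.J2.Perm.F9.card, hF])))⟩

end Cfsg.Agent.McLU43
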