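import Cfsg.Agent.McLU43.Data
import Cfsg.Agent.McLSimple.RankThree275

/-!
# Six lattice automorphisms fixing a triangle and a further vector
-/

set_option autoImplicit false
set_option maxRecDepth 100000

namespace Cfsg.Agent.McLU43

open Cfsg CfsgLib CfsgLib.Golay MulAction McLSimple

/-- An entry of a matrix or of its transpose. -/
def entry (l : Fin 6) (b : Bool) (i k : ℕ) : ℤ :=
  if b then ((latMats.getD l.val []).getD k []).getD i 0 else ((latMats.getD l.val []).getD i []).getD k 0

/-- A column. -/
def col (l : Fin 6) (b : Bool) (p : GolayPt) : GolayPt → ℤ := fun q => entry l b (idx q) (idx p)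

/-- A column as a list. -/
def colL (l : Fin 6) (b : Bool) (k : ℕ) : List ℤ :=
  if b then (latMats.getD l.val []).getD k [] else (latMats.getD l.val []).map fun r => r.getD k 0

theorem colL_eq : ∀ l : Fin 6, ∀ b : Bool, ∀ p : GolayPt, colL l b (idx p) = toL (col l b p) := by decide +kernel

/-- Eight times the image, in terms of the coordinate list. -/
def rawL (l : Fin 6) (b : Bool) (xs : List ℤ) (p : GolayPt) : ℤ := dotL xs (colL l b (idx p))

theorem rawL_toL (l : Fin 6) (b : Bool) (x : GolayPt → ℤ) (p : GolayPt) :
    rawL l b (toL x) p = dotInt x (col l b p) := by rw [rawL, colL_eq, dot_toL]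

/-- The vectors with image in the lattice. -/
def good (l : Fin 6) (b : Bool) : AddSubgroup (GolayPt → ℤ) where
  carrier := {x | ∃ y ∈ leechLattice, ∀ p, 8 * y p = dotInt x (col l b p)}
  add_mem' := by
    rintro x x' ⟨y, hy, e⟩ ⟨y', hy', e'⟩
    refine ⟨y + y', add_mem hy hy', fun p => ?_⟩
    rw [Pi.add_apply, mul_add, e, e']
    simp [dotInt, add_mul, Finset.sum_add_distrib]
  zero_mem' := ⟨0, zero_mem _, fun p => by simp [dotInt]⟩
  neg_mem' := by
    rintro x ⟨y, hy, e⟩
    refine ⟨-y, neg_mem hy, fun p => ?_⟩
    rw [Pi.neg_apply, mul_neg, e]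
    simp [dotInt, Finset.sum_neg_distrib]

/-- The test for a spanning vector. -/
def GoodTest (l : Fin 6) (b : Bool) (xs : List ℤ) : Prop :=
  (∀ p, rawL l b xs p % 8 = 0) ∧ Leech.LeechTest fun p => rawL l b xs p / 8

instance (l : Fin 6) (b : Bool) (xs : List ℤ) : Decidable (GoodTest l b xs) := by
  unfold GoodTest; infer_instance

theorem mem_good_of_test {l : Fin 6} {b : Bool} {x : GolayPt → ℤ} (h : GoodTest l b (toL x)) :
    x ∈ good l b :=
  ⟨_, Leech.mem_of_test h.2, fun p => by
    rw [Int.mul_ediv_cancel' (Int.dvd_of_emod_eq_zero (h.1 p)), rawL_toL]⟩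

theorem test_vecV : ∀ l : Fin 6, ∀ b : Bool, GoodTest l b (toL Spor.vecV) := by decide +kernel

theorem test_rows : ∀ l : Fin 6, ∀ b : Bool, ∀ r ∈ CfsgLib.Golay.rows, GoodTest l b (toL (Leech.twoVec r)) := by
  decide +kernel

theorem test_four : ∀ l : Fin 6, ∀ b : Bool, ∀ q, GoodTest l b (toL (Leech.fourPair q)) := by decide +kernel

theorem rows_orth : ∀ l : Fin 6, ∀ b : Bool, ∀ q q' : GolayPt,
    dotL (colL l b (idx q)) (colL l b (idx q')) = if q = q' then 64 else 0 := by decide +kernel

theorem col_swap (l : Fin 6) (b : Bool) (p q : GolayPt) : col l (!b) p q = col l b q p := by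
  cases b <;> rfl

theorem mat_orth (l : Fin 6) (b : Bool) (q q' : GolayPt) :
    (∑ p, col l b p q * col l b p q') = if q = q' then 64 else 0 := by
  rw [← rows_orth l (!b) q q', colL_eq, colL_eq, ← dot_toL]
  exact Finset.sum_congr rfl fun p _ => by rw [col_swap, col_swap]

theorem exists_image {l : Fin 6} (b : Bool) (v : leechLattice) :
    ∃ w : leechLattice, ∀ p, 8 * (w : GolayPt → ℤ) p = dotInt (v : GolayPt → ℤ) (col l b p) := by
  obtain ⟨y, hy, e⟩ := Leech.leech_le (good l b) (mem_good_of_test (test_vecV l b))
    (fun r hr => mem_good_of_test (test_rows l b r hr)) (fun q => mem_good_of_test (test_four l b q)) v.2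
  exact ⟨⟨y, hy⟩, e⟩

/-- The image of a lattice vector. -/
noncomputable def image (l : Fin 6) (b : Bool) (v : leechLattice) : leechLattice :=
  (exists_image (l := l) b v).choose

theorem image_spec (l : Fin 6) (b : Bool) (v : leechLattice) (p : GolayPt) :
    8 * (image l b v : GolayPt → ℤ) p = dotInt (v : GolayPt → ℤ) (col l b p) :=
  (exists_image (l := l) b v).choose_spec p

theorem image_eq {l : Fin 6} {b : Bool} {v w : leechLattice}
    (h : ∀ p, rawL l b (toL (v : GolayPt → ℤ)) p = 8 * (w : GolayPt → ℤ) p) : image l b v = w :=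
  Subtype.ext (funext fun p => mul_left_cancel₀ (show (8 : ℤ) ≠ 0 by norm_num)
    (by rw [image_spec, ← rawL_toL, h]))

theorem image_image (l : Fin 6) (b : Bool) (v : leechLattice) : image l (!b) (image l b v) = v := by
  refine Subtype.ext (funext fun r => mul_left_cancel₀ (show (64 : ℤ) ≠ 0 by norm_num) ?_)
  calc 64 * ((image l (!b) (image l b v) : leechLattice) : GolayPt → ℤ) r
      = ∑ p, (8 * (image l b v : GolayPt → ℤ) p) * col l b p r := by
        rw [show (64 : ℤ) = 8 * 8 by norm_num, mul_assoc, image_spec, dotInt, Finset.mul_sum]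
        exact Finset.sum_congr rfl fun p _ => by rw [col_swap]; ring
    _ = ∑ q, (v : GolayPt → ℤ) q * ∑ p, col l b p q * col l b p r := by
        simp only [image_spec, dotInt, Finset.sum_mul, Finset.mul_sum]
        rw [Finset.sum_comm]
        exact Finset.sum_congr rfl fun q _ => Finset.sum_congr rfl fun p _ => by ring
    _ = 64 * (v : GolayPt → ℤ) r := by
        simp only [mat_orth, mul_ite, mul_zero, Finset.sum_ite_eq', Finset.mem_univ, if_true]
        ring

theorem image_add (l : Fin 6) (b : Bool) (v w : leechLattice) :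
    image l b (v + w) = image l b v + image l b w :=
  Subtype.ext (funext fun p => mul_left_cancel₀ (show (8 : ℤ) ≠ 0 by norm_num) (by
    rw [image_spec, AddSubgroup.coe_add, AddSubgroup.coe_add, Pi.add_apply, mul_add, image_spec, image_spec]
    simp [dotInt, add_mul, Finset.sum_add_distrib]))

/-- The automorphism of the lattice. -/
noncomputable def latEquiv (l : Fin 6) : leechLattice ≃+ leechLattice where
  toFun := image l false
  invFun := image l true
  left_inv v := image_image l false v
  right_inv v := image_image l true v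
  map_add' := image_add l false

theorem image_sqNorm (l : Fin 6) (v : leechLattice) :
    sqNorm ((latEquiv l v : leechLattice) : GolayPt → ℤ) = sqNorm (v : GolayPt → ℤ) := by
  refine mul_left_cancel₀ (show (64 : ℤ) ≠ 0 by norm_num) ?_
  calc 64 * sqNorm ((latEquiv l v : leechLattice) : GolayPt → ℤ)
      = ∑ p, (8 * (image l false v : GolayPt → ℤ) p) * (8 * (image l false v : GolayPt → ℤ) p) := by
        rw [sqNorm, Finset.mul_sum]
        exact Finset.sum_congr rfl fun p _ => by
          show 64 * (image l false v : GolayPt → ℤ) p ^ 2 = _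
          ring
    _ = ∑ q, (v : GolayPt → ℤ) q * ∑ q', (v : GolayPt → ℤ) q' * ∑ p, col l false p q * col l false p q' := by
        simp only [image_spec, dotInt, Finset.sum_mul, Finset.mul_sum]
        rw [Finset.sum_comm]
        refine Finset.sum_congr rfl fun q _ => ?_
        rw [Finset.sum_comm]
        exact Finset.sum_congr rfl fun q' _ => Finset.sum_congr rfl fun p _ => by ring
    _ = 64 * sqNorm (v : GolayPt → ℤ) := by
        simp only [mat_orth, mul_ite, mul_zero, Finset.sum_ite_eq, Finset.mem_univ, if_true, sqNorm,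
          Finset.mul_sum]
        exact Finset.sum_congr rfl fun p _ => by ring

/-- The generator. -/
noncomputable def gen (l : Fin 6) : Co0 := Leech.mkAut (latEquiv l) (image_sqNorm l)

theorem gen_smul_eq {l : Fin 6} {v w : leechLattice}
    (h : ∀ p, rawL l false (toL (v : GolayPt → ℤ)) p = 8 * (w : GolayPt → ℤ) p) : gen l • v = w := by
  rw [gen, Leech.mkAut_smul]
  exact image_eq h

/-- A vector from a list. -/
def ofL (xs : List ℤ) : GolayPt → ℤ := fun p => xs.getD (idx p) 0

theorem third_test : Leech.LeechTest (ofL thirdVec) := by decide +kernel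

theorem sub_test : ∀ j : Fin 112, Leech.LeechTest (ofL (subVecs.getD j.val [])) := by decide +kernel

/-- The third vector in the lattice. -/
def third : leechLattice := ⟨_, Leech.mem_of_test third_test⟩

/-- A vector of the suborbit. -/
def sub (j : Fin 112) : leechLattice := ⟨_, Leech.mem_of_test (sub_test j)⟩

/-- The permutation of the suborbit. -/
def vperm (l : Fin 6) (j : Fin 112) : Fin 112 := Fin.ofNat 112 ((vecPerms.getD l.val []).getD j.val 0)

theorem fix_ok : ∀ l : Fin 6, ∀ p,
    rawL l false (toL Spor.vecV) p = 8 * Spor.vecV p ∧ rawL l false (toL Spor.vecU) p = 8 * Spor.vecU p ∧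
      rawL l false (toL (ofL thirdVec)) p = 8 * ofL thirdVec p := by decide +kernel

theorem move_ok : ∀ l : Fin 6, ∀ j : Fin 112, ∀ p,
    rawL l false (toL (ofL (subVecs.getD j.val []))) p = 8 * ofL (subVecs.getD (vperm l j).val []) p := by
  decide +kernel

theorem sub_keys : (subVecs.map fun xs => toL (ofL xs)).Nodup ∧ subVecs.length = 112 := by decide +kernel

theorem sub_injective : Function.Injective sub := by
  intro a b h
  have hl := sub_keys.2
  have h' : toL (ofL (subVecs.getD a.val [])) = toL (ofL (subVecs.getD b.val [])) :=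
    congrArg (fun v : leechLattice => toL (v : GolayPt → ℤ)) h
  rw [List.getD_eq_getElem _ _ (by omega), List.getD_eq_getElem _ _ (by omega)] at h'
  refine Fin.ext ((sub_keys.1.getElem_inj_iff (hi := by simpa using by omega)
    (hj := by simpa using by omega)).mp ?_)
  simpa using h'

theorem gen_third (l : Fin 6) : gen l • third = third := gen_smul_eq fun p => (fix_ok l p).2.2

theorem gen_sub (l : Fin 6) (j : Fin 112) : gen l • sub j = sub (vperm l j) :=
  gen_smul_eq fun p => move_ok l j p

theorem gen_mem_mclStab (l : Fin 6) : gen l ∈ mclStab :=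
  ⟨mem_stabilizer_iff.mpr (gen_smul_eq fun p => (fix_ok l p).1),
    mem_stabilizer_iff.mpr (gen_smul_eq fun p => (fix_ok l p).2.1)⟩

end Cfsg.Agent.McLU43
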