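import Mathlib.Data.List.Range

/-!
# The 280 points of the unitary space of dimension four over nine elements, in the lattice
-/

set_option autoImplicit false
set_option maxRecDepth 8000

namespace Cfsg.Agent.McLU43

/-- The third vector. -/
def thirdVec : List Int := [0,0,0,0,0,0,0,0,0,0,0,0,0,0,0,0,0,0,0,0,0,0,4,4]

/-- The 112 vectors of the suborbit. -/
def subVecs : List (List Int) := [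
  [0,-2,-2,-2,0,0,0,-2,-2,0,0,0,0,0,0,0,0,0,0,0,-2,0,2,2],
  [0,-2,-2,0,0,-2,0,0,0,0,0,-2,0,0,0,-2,0,0,0,-2,0,0,2,2],
  [0,-2,-2,0,0,0,-2,0,0,0,-2,0,-2,0,-2,0,0,0,0,0,0,0,2,2],
  [0,-2,-2,0,0,0,0,0,0,-2,0,0,0,0,0,0,0,-2,-2,0,0,-2,2,2],
  [0,-2,0,-2,-2,-2,0,0,0,-2,-2,0,0,0,0,0,0,0,0,0,0,0,2,2],
  [0,-2,0,-2,0,0,-2,0,0,0,0,0,0,0,0,0,-2,-2,0,-2,0,0,2,2],
  [0,-2,0,-2,0,0,0,0,0,0,0,-2,0,-2,-2,0,0,0,-2,0,0,0,2,2],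
  [0,-2,0,0,-2,0,-2,0,-2,0,0,-2,0,0,0,0,0,0,0,0,0,-2,2,2],
  [0,-2,0,0,-2,0,0,-2,0,0,0,0,-2,0,0,0,0,0,-2,-2,0,0,2,2],
  [0,-2,0,0,-2,0,0,0,0,0,0,0,0,0,-2,-2,0,-2,0,0,-2,0,2,2],
  [0,-2,0,0,0,-2,0,-2,0,0,0,0,0,0,-2,0,-2,0,0,0,0,-2,2,2],
  [0,-2,0,0,0,-2,0,0,-2,0,0,0,-2,-2,0,0,0,-2,0,0,0,0,2,2],
  [0,-2,0,0,0,0,-2,-2,0,-2,0,0,0,-2,0,-2,0,0,0,0,0,0,2,2],
  [0,-2,0,0,0,0,0,0,-2,0,-2,0,0,0,0,-2,-2,0,-2,0,0,0,2,2],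
  [0,-2,0,0,0,0,0,0,0,-2,0,-2,-2,0,0,0,-2,0,0,0,-2,0,2,2],
  [0,-2,0,0,0,0,0,0,0,0,-2,0,0,-2,0,0,0,0,0,-2,-2,-2,2,2],
  [0,0,-2,-2,-2,0,0,0,0,0,0,-2,-2,0,0,0,0,-2,0,0,0,0,2,2],
  [0,0,-2,-2,0,-2,-2,0,0,0,0,0,0,-2,0,0,0,0,0,0,0,-2,2,2],
  [0,0,-2,-2,0,0,0,0,0,-2,0,0,0,0,-2,-2,-2,0,0,0,0,0,2,2],
  [0,0,-2,0,-2,-2,0,0,-2,0,0,0,0,0,-2,0,0,0,-2,0,0,0,2,2],
  [0,0,-2,0,-2,0,-2,0,0,-2,0,0,0,0,0,0,0,0,0,-2,-2,0,2,2],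
  [0,0,-2,0,-2,0,0,-2,0,0,-2,0,0,0,0,-2,0,0,0,0,0,-2,2,2],
  [0,0,-2,0,0,-2,0,0,0,0,-2,0,0,0,0,0,-2,-2,0,0,-2,0,2,2],
  [0,0,-2,0,0,0,-2,-2,0,0,0,-2,0,0,0,0,-2,0,-2,0,0,0,2,2],
  [0,0,-2,0,0,0,0,-2,0,0,0,0,0,-2,-2,0,0,-2,0,-2,0,0,2,2],
  [0,0,-2,0,0,0,0,0,-2,-2,-2,-2,0,-2,0,0,0,0,0,0,0,0,2,2],
  [0,0,-2,0,0,0,0,0,-2,0,0,0,-2,0,0,0,-2,0,0,-2,0,-2,2,2],
  [0,0,-2,0,0,0,0,0,0,0,0,0,-2,-2,0,-2,0,0,-2,0,-2,0,2,2],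
  [0,0,0,-2,-2,0,0,0,-2,0,0,0,0,-2,0,-2,0,0,0,-2,0,0,2,2],
  [0,0,0,-2,-2,0,0,0,0,0,0,0,0,0,0,0,-2,0,-2,0,-2,-2,2,2],
  [0,0,0,-2,0,-2,0,-2,0,0,0,0,0,0,0,-2,0,-2,-2,0,0,0,2,2],
  [0,0,0,-2,0,-2,0,0,0,0,0,0,-2,0,-2,0,0,0,0,-2,-2,0,2,2],
  [0,0,0,-2,0,0,-2,0,-2,-2,0,0,-2,0,0,0,0,0,-2,0,0,0,2,2],
  [0,0,0,-2,0,0,-2,0,0,0,-2,-2,0,0,0,-2,0,0,0,0,-2,0,2,2],
  [0,0,0,-2,0,0,0,-2,0,-2,0,-2,0,0,0,0,0,0,0,-2,0,-2,2,2],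
  [0,0,0,-2,0,0,0,-2,0,0,-2,0,-2,-2,0,0,-2,0,0,0,0,0,2,2],
  [0,0,0,-2,0,0,0,0,-2,0,-2,0,0,0,-2,0,0,-2,0,0,0,-2,2,2],
  [0,0,0,0,-2,-2,-2,0,0,0,0,0,-2,0,0,-2,-2,0,0,0,0,0,2,2],
  [0,0,0,0,-2,-2,0,-2,0,0,0,-2,0,-2,0,0,0,0,0,0,-2,0,2,2],
  [0,0,0,0,-2,0,-2,0,0,0,-2,0,0,-2,0,0,0,-2,-2,0,0,0,2,2],
  [0,0,0,0,-2,0,0,-2,-2,-2,0,0,0,0,0,0,-2,-2,0,0,0,0,2,2],
  [0,0,0,0,-2,0,0,0,0,-2,0,0,-2,-2,-2,0,0,0,0,0,0,-2,2,2],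
  [0,0,0,0,-2,0,0,0,0,0,-2,-2,0,0,-2,0,-2,0,0,-2,0,0,2,2],
  [0,0,0,0,0,-2,-2,-2,-2,0,-2,0,0,0,0,0,0,0,0,-2,0,0,2,2],
  [0,0,0,0,0,-2,-2,0,0,-2,0,-2,0,0,-2,0,0,-2,0,0,0,0,2,2],
  [0,0,0,0,0,-2,0,0,-2,-2,0,0,0,0,0,-2,0,0,0,0,-2,-2,2,2],
  [0,0,0,0,0,-2,0,0,0,-2,0,0,0,-2,0,0,-2,0,-2,-2,0,0,2,2],
  [0,0,0,0,0,-2,0,0,0,0,-2,-2,-2,0,0,0,0,0,-2,0,0,-2,2,2],
  [0,0,0,0,0,0,-2,-2,0,0,0,0,-2,0,0,0,0,-2,0,0,-2,-2,2,2],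
  [0,0,0,0,0,0,-2,0,-2,0,0,0,0,-2,-2,0,-2,0,0,0,-2,0,2,2],
  [0,0,0,0,0,0,-2,0,0,0,0,0,0,0,-2,-2,0,0,-2,-2,0,-2,2,2],
  [0,0,0,0,0,0,0,-2,-2,0,0,-2,-2,0,-2,-2,0,0,0,0,0,0,2,2],
  [0,0,0,0,0,0,0,-2,0,-2,-2,0,0,0,-2,0,0,0,-2,0,-2,0,2,2],
  [0,0,0,0,0,0,0,0,-2,0,0,-2,0,0,0,0,0,-2,-2,-2,-2,0,2,2],
  [0,0,0,0,0,0,0,0,0,-2,-2,0,-2,0,0,-2,0,-2,0,-2,0,0,2,2],
  [0,0,0,0,0,0,0,0,0,0,0,-2,0,-2,0,-2,-2,-2,0,0,0,-2,2,2],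
  [1,-1,-1,-1,-1,-1,-1,-1,-1,-1,1,1,-1,1,-1,-1,1,-1,1,-1,1,-1,3,1],
  [1,-1,-1,-1,-1,-1,-1,-1,-1,1,-1,-1,1,-1,-1,-1,-1,-1,1,1,1,1,3,1],
  [1,-1,-1,-1,-1,-1,-1,-1,1,-1,1,1,-1,-1,-1,1,-1,-1,-1,1,-1,1,3,1],
  [1,-1,-1,-1,-1,-1,-1,-1,1,1,-1,-1,1,1,-1,1,1,-1,-1,-1,-1,-1,3,1],
  [1,-1,-1,-1,-1,-1,-1,1,-1,1,-1,-1,-1,-1,1,1,-1,1,-1,-1,-1,1,3,1],
  [1,-1,-1,-1,-1,-1,1,-1,-1,-1,1,-1,-1,-1,1,-1,-1,1,-1,1,1,-1,3,1],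
  [1,-1,-1,-1,-1,-1,1,1,-1,-1,1,-1,1,-1,-1,1,-1,-1,1,-1,-1,-1,3,1],
  [1,-1,-1,-1,-1,-1,1,1,1,1,-1,1,-1,-1,-1,-1,-1,-1,-1,-1,1,-1,3,1],
  [1,-1,-1,-1,-1,1,-1,-1,-1,-1,-1,1,1,-1,-1,1,-1,1,-1,-1,1,-1,3,1],
  [1,-1,-1,-1,-1,1,-1,-1,1,1,1,-1,-1,-1,-1,-1,-1,1,1,-1,-1,-1,3,1],
  [1,-1,-1,-1,-1,1,-1,1,-1,-1,-1,1,-1,-1,1,-1,-1,-1,1,1,-1,-1,3,1],
  [1,-1,-1,-1,-1,1,1,-1,1,-1,-1,-1,1,-1,1,-1,-1,-1,-1,-1,-1,1,3,1],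
  [1,-1,-1,-1,-1,1,1,1,-1,-1,-1,-1,-1,1,-1,-1,1,1,-1,-1,-1,-1,3,1],
  [1,-1,-1,-1,1,-1,-1,-1,1,-1,-1,1,-1,1,1,-1,-1,1,-1,-1,-1,-1,3,1],
  [1,-1,-1,-1,1,-1,-1,1,-1,-1,-1,1,1,-1,-1,-1,1,-1,-1,-1,-1,1,3,1],
  [1,-1,-1,-1,1,-1,-1,1,-1,1,1,-1,-1,1,-1,-1,-1,-1,-1,1,-1,-1,3,1],
  [1,-1,-1,-1,1,-1,1,-1,-1,-1,-1,-1,-1,1,-1,1,-1,-1,-1,-1,1,1,3,1],
  [1,-1,-1,-1,1,-1,1,-1,1,-1,-1,-1,-1,-1,-1,-1,1,-1,1,1,-1,-1,3,1],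
  [1,-1,-1,-1,1,1,-1,-1,-1,1,-1,-1,-1,-1,1,-1,1,-1,-1,-1,1,-1,3,1],
  [1,-1,-1,1,-1,-1,-1,-1,-1,-1,-1,-1,-1,1,1,-1,1,-1,-1,1,-1,1,3,1],
  [1,-1,-1,1,-1,-1,-1,-1,-1,1,1,1,1,-1,1,-1,-1,-1,-1,-1,-1,-1,3,1],
  [1,-1,-1,1,-1,-1,-1,-1,1,-1,-1,-1,-1,-1,1,1,-1,-1,1,-1,1,-1,3,1],
  [1,-1,-1,1,-1,-1,-1,1,1,-1,-1,-1,1,-1,-1,-1,-1,1,-1,1,-1,-1,3,1],
  [1,-1,-1,1,-1,-1,1,-1,-1,-1,-1,1,-1,-1,-1,-1,-1,1,1,-1,-1,1,3,1],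
  [1,-1,-1,1,-1,1,-1,1,-1,-1,1,-1,-1,-1,-1,-1,-1,-1,-1,-1,1,1,3,1],
  [1,-1,-1,1,-1,1,1,-1,-1,1,-1,-1,-1,-1,-1,1,-1,-1,-1,1,-1,-1,3,1],
  [1,-1,-1,1,1,-1,-1,-1,-1,-1,1,-1,-1,-1,-1,1,1,1,-1,-1,-1,-1,3,1],
  [1,-1,-1,1,1,1,-1,-1,-1,-1,-1,-1,1,1,-1,-1,-1,-1,1,-1,-1,-1,3,1],
  [1,-1,1,-1,-1,-1,-1,-1,-1,-1,1,-1,1,1,-1,-1,-1,1,-1,-1,-1,1,3,1],
  [1,-1,1,-1,-1,-1,-1,-1,-1,1,-1,1,-1,-1,-1,-1,1,1,-1,1,-1,-1,3,1],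
  [1,-1,1,-1,-1,-1,-1,1,1,-1,1,-1,-1,-1,1,-1,1,-1,-1,-1,-1,-1,3,1],
  [1,-1,1,-1,-1,-1,1,-1,-1,1,-1,-1,-1,1,1,-1,-1,-1,1,-1,-1,-1,3,1],
  [1,-1,1,-1,-1,1,-1,-1,-1,-1,-1,-1,-1,-1,-1,1,1,-1,1,-1,-1,1,3,1],
  [1,-1,1,-1,-1,1,-1,-1,1,-1,-1,-1,-1,1,-1,-1,-1,-1,-1,1,1,-1,3,1],
  [1,-1,1,-1,1,-1,-1,-1,-1,-1,-1,-1,1,-1,1,1,-1,-1,-1,1,-1,-1,3,1],
  [1,-1,1,-1,1,-1,-1,1,-1,-1,-1,-1,-1,-1,-1,-1,-1,1,1,-1,1,-1,3,1],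
  [1,-1,1,-1,1,1,1,-1,-1,-1,1,1,-1,-1,-1,-1,-1,-1,-1,-1,-1,-1,3,1],
  [1,-1,1,1,-1,-1,-1,1,-1,-1,-1,1,-1,1,-1,1,-1,-1,-1,-1,-1,-1,3,1],
  [1,-1,1,1,-1,-1,1,-1,-1,-1,-1,-1,1,-1,-1,-1,1,-1,-1,-1,1,-1,3,1],
  [1,-1,1,1,1,-1,-1,-1,1,1,-1,-1,-1,-1,-1,-1,-1,-1,-1,-1,-1,1,3,1],
  [1,1,-1,-1,-1,-1,-1,-1,-1,-1,-1,-1,-1,1,-1,1,-1,1,1,1,-1,-1,3,1],
  [1,1,-1,-1,-1,-1,-1,-1,1,-1,-1,-1,-1,-1,-1,-1,1,1,-1,-1,1,1,3,1],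
  [1,1,-1,-1,-1,-1,-1,1,-1,-1,-1,-1,1,1,1,-1,-1,-1,-1,-1,1,-1,3,1],
  [1,1,-1,-1,-1,-1,1,-1,-1,-1,-1,1,-1,-1,1,1,1,-1,-1,-1,-1,-1,3,1],
  [1,1,-1,-1,-1,1,-1,-1,-1,-1,1,-1,1,-1,-1,-1,1,-1,-1,1,-1,-1,3,1],
  [1,1,-1,-1,-1,1,-1,-1,-1,1,-1,1,-1,1,-1,-1,-1,-1,-1,-1,-1,1,3,1],
  [1,1,-1,-1,1,-1,-1,-1,-1,-1,1,-1,-1,-1,1,-1,-1,-1,1,-1,-1,1,3,1],
  [1,1,-1,-1,1,-1,1,-1,-1,1,-1,-1,1,-1,-1,-1,-1,1,-1,-1,-1,-1,3,1],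
  [1,1,-1,-1,1,1,-1,1,1,-1,-1,-1,-1,-1,-1,1,-1,-1,-1,-1,-1,-1,3,1],
  [1,1,-1,1,-1,-1,-1,1,-1,1,-1,-1,-1,-1,-1,-1,1,-1,1,-1,-1,-1,3,1],
  [1,1,-1,1,-1,-1,1,-1,1,-1,1,-1,-1,1,-1,-1,-1,-1,-1,-1,-1,-1,3,1],
  [1,1,-1,1,1,-1,-1,-1,-1,-1,-1,1,-1,-1,-1,-1,-1,-1,-1,1,1,-1,3,1],
  [1,1,1,-1,-1,-1,-1,-1,-1,1,1,-1,-1,-1,-1,1,-1,-1,-1,-1,1,-1,3,1],
  [1,1,1,-1,-1,-1,-1,-1,1,-1,-1,1,1,-1,-1,-1,-1,-1,1,-1,-1,-1,3,1],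
  [1,1,1,-1,-1,-1,1,1,-1,-1,-1,-1,-1,-1,-1,-1,-1,-1,-1,1,-1,1,3,1],
  [1,1,1,1,-1,1,-1,-1,-1,-1,-1,-1,-1,-1,1,-1,-1,1,-1,-1,-1,-1,3,1]]

/-- The quadruples of pairwise adjacent vectors. -/
def quads : List (List Nat) := [
  [0,37,94,104],
  [0,39,91,106],
  [0,41,95,98],
  [0,42,86,107],
  [0,44,63,111],
  [0,46,89,105],
  [0,47,80,109],
  [0,50,77,110],
  [0,54,78,108],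
  [0,55,93,97],
  [1,29,88,107],
  [1,32,81,109],
  [1,35,93,100],
  [1,36,58,111],
  [1,39,92,96],
  [1,40,85,104],
  [1,41,90,101],
  [1,48,64,110],
  [1,49,89,99],
  [1,52,66,108],
  [2,28,90,106],
  [2,29,94,102],
  [2,30,62,111],
  [2,34,76,110],
  [2,38,92,98],
  [2,40,86,103],
  [2,45,67,108],
  [2,46,87,100],
  [2,53,61,109],
  [2,55,84,99],
  [3,28,95,96],
  [3,31,57,111],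
  [3,33,79,108],
  [3,35,84,105],
  [3,37,88,103],
  [3,38,91,101],
  [3,42,85,102],
  [3,43,65,110],
  [3,49,87,97],
  [3,51,60,109],
  [4,23,92,105],
  [4,24,71,111],
  [4,26,95,100],
  [4,27,83,108],
  [4,48,80,103],
  [4,49,74,106],
  [4,50,81,102],
  [4,51,76,104],
  [4,53,65,107],
  [4,55,82,101],
  [5,19,73,111],
  [5,21,82,110],
  [5,25,85,106],
  [5,27,94,96],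
  [5,38,68,107],
  [5,41,75,103],
  [5,45,81,97],
  [5,47,79,100],
  [5,51,78,99],
  [5,52,61,105],
  [6,20,87,107],
  [6,21,93,102],
  [6,22,56,111],
  [6,26,75,109],
  [6,37,83,99],
  [6,40,69,105],
  [6,43,66,106],
  [6,45,77,101],
  [6,48,79,98],
  [6,54,76,96],
  [7,18,95,99],
  [7,22,92,97],
  [7,24,69,110],
  [7,27,72,109],
  [7,30,79,104],
  [7,31,67,107],
  [7,35,70,106],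
  [7,46,73,101],
  [7,52,63,102],
  [7,54,58,103],
  [8,17,83,110],
  [8,18,90,105],
  [8,22,91,100],
  [8,25,71,109],
  [8,33,62,107],
  [8,36,78,102],
  [8,44,66,103],
  [8,45,57,104],
  [8,49,73,98],
  [8,55,70,96],
  [9,17,72,111],
  [9,23,91,99],
  [9,25,69,108],
  [9,26,90,97],
  [9,32,77,103],
  [9,34,60,107],
  [9,35,82,98],
  [9,43,61,104],
  [9,46,74,96],
  [9,47,64,102],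
  [10,16,70,111],
  [10,20,74,110],
  [10,25,86,101],
  [10,27,88,98],
  [10,28,75,104],
  [10,32,67,105],
  [10,33,80,99],
  [10,39,68,102],
  [10,53,66,97],
  [10,54,60,100],
  [11,18,59,111],
  [11,20,89,103],
  [11,21,84,104],
  [11,23,68,109],
  [11,29,83,97],
  [11,33,64,106],
  [11,34,78,101],
  [11,42,69,100],
  [11,50,67,96],
  [11,52,65,98],
  [12,16,93,103],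
  [12,19,87,104],
  [12,22,68,108],
  [12,26,59,110],
  [12,29,72,105],
  [12,31,81,98],
  [12,36,60,106],
  [12,42,71,99],
  [12,47,62,101],
  [12,53,63,96],
  [13,16,82,109],
  [13,17,88,106],
  [13,20,73,108],
  [13,24,86,96],
  [13,31,77,100],
  [13,34,58,105],
  [13,38,56,104],
  [13,41,59,102],
  [13,44,65,99],
  [13,48,62,97],
  [14,17,94,101],
  [14,19,74,109],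
  [14,21,70,108],
  [14,24,85,98],
  [14,28,59,107],
  [14,30,64,105],
  [14,36,76,97],
  [14,39,56,103],
  [14,43,63,100],
  [14,50,57,99],
  [15,16,84,107],
  [15,18,75,108],
  [15,19,89,102],
  [15,23,56,110],
  [15,30,80,96],
  [15,32,57,106],
  [15,37,72,100],
  [15,40,71,97],
  [15,44,61,101],
  [15,51,58,98],
  [16,43,78,92],
  [16,45,64,95],
  [16,46,83,85],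
  [16,49,69,94],
  [16,50,79,90],
  [16,52,76,91],
  [17,40,68,95],
  [17,42,75,92],
  [17,51,67,93],
  [17,52,80,87],
  [17,53,79,89],
  [17,54,81,84],
  [18,38,74,93],
  [18,39,82,87],
  [18,43,81,86],
  [18,47,76,88],
  [18,48,60,94],
  [18,53,77,85],
  [19,33,77,92],
  [19,34,66,95],
  [19,35,83,86],
  [19,48,67,91],
  [19,54,65,90],
  [19,55,69,88],
  [20,30,81,91],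
  [20,35,71,94],
  [20,36,61,95],
  [20,47,57,92],
  [20,51,63,90],
  [20,55,72,85],
  [21,31,80,90],
  [21,32,62,95],
  [21,44,60,92],
  [21,46,71,88],
  [21,49,72,86],
  [21,53,58,91],
  [22,28,82,89],
  [22,32,65,94],
  [22,34,80,85],
  [22,41,74,84],
  [22,50,61,88],
  [22,51,64,86],
  [23,28,73,93],
  [23,31,66,94],
  [23,36,79,86],
  [23,41,70,87],
  [23,45,63,88],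
  [23,54,62,85],
  [24,29,75,91],
  [24,32,78,87],
  [24,33,61,93],
  [24,37,68,90],
  [24,45,60,89],
  [24,47,66,84],
  [25,29,56,95],
  [25,30,65,93],
  [25,31,76,89],
  [25,37,59,92],
  [25,48,63,84],
  [25,50,58,87],
  [26,30,78,88],
  [26,33,58,94],
  [26,38,70,89],
  [26,39,73,84],
  [26,44,67,85],
  [26,52,57,86],
  [27,34,57,93],
  [27,36,77,84],
  [27,40,59,91],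
  [27,42,56,90],
  [27,43,62,89],
  [27,44,64,87],
  [28,44,69,81],
  [28,47,58,83],
  [28,48,72,78],
  [28,52,71,77],
  [29,43,73,80],
  [29,44,74,79],
  [29,51,70,77],
  [29,54,57,82],
  [30,41,60,83],
  [30,42,66,82],
  [30,49,68,77],
  [31,39,61,83],
  [31,40,74,78],
  [31,55,64,75],
  [32,38,63,83],
  [32,42,73,76],
  [32,55,59,79],
  [33,40,63,82],
  [33,41,72,76],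
  [33,46,56,81],
  [34,37,70,81],
  [34,39,71,79],
  [34,49,63,75],
  [35,44,68,76],
  [35,45,59,80],
  [35,50,62,75],
  [35,53,56,78],
  [36,37,67,82],
  [36,38,69,80],
  [36,46,65,75],
  [37,52,62,74],
  [37,53,64,73],
  [38,50,66,72],
  [38,54,64,71],
  [39,45,65,72],
  [39,51,62,69],
  [40,47,65,70],
  [40,50,60,73],
  [41,43,67,71],
  [41,53,57,69],
  [42,45,58,74],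
  [42,48,61,70],
  [43,55,58,68],
  [46,48,57,68],
  [46,51,59,66],
  [47,49,56,67],
  [49,54,59,61],
  [52,55,56,60]]

/-- The matching isotropic vectors. -/
def ptCodes : List (List Nat) := [
  [0,0,1,4],
  [1,4,7,2],
  [1,4,5,1],
  [1,4,0,0],
  [1,4,3,5],
  [1,4,8,3],
  [1,4,1,4],
  [1,4,2,8],
  [1,4,6,7],
  [1,4,4,6],
  [0,0,1,5],
  [1,8,8,2],
  [1,8,6,4],
  [1,8,7,6],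
  [1,8,2,7],
  [1,8,0,0],
  [1,8,1,5],
  [1,8,4,1],
  [1,8,3,8],
  [1,8,5,3],
  [1,7,7,3],
  [1,7,0,0],
  [1,7,6,8],
  [1,7,1,7],
  [1,7,5,6],
  [0,0,1,7],
  [1,7,3,4],
  [1,7,8,1],
  [1,7,2,5],
  [1,7,4,2],
  [1,5,3,7],
  [1,5,4,3],
  [1,5,8,6],
  [1,5,2,4],
  [1,5,0,0],
  [1,5,6,5],
  [0,0,1,8],
  [1,5,5,2],
  [1,5,1,8],
  [1,5,7,1],
  [1,2,0,1],
  [0,1,1,1],
  [1,1,2,0],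
  [1,0,1,2],
  [1,5,3,4],
  [1,6,7,8],
  [1,7,8,6],
  [1,8,6,7],
  [1,4,5,3],
  [1,3,4,5],
  [1,2,1,0],
  [1,1,0,6],
  [1,8,7,1],
  [1,7,6,7],
  [1,4,3,8],
  [1,5,4,2],
  [1,6,8,4],
  [0,1,1,3],
  [1,0,2,3],
  [1,3,5,5],
  [1,4,2,7],
  [1,7,3,7],
  [1,6,8,7],
  [1,3,4,7],
  [1,5,6,7],
  [1,8,1,7],
  [1,1,7,7],
  [0,1,7,0],
  [1,2,5,7],
  [1,0,0,7],
  [1,2,0,6],
  [1,1,3,0],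
  [1,0,6,3],
  [0,1,6,6],
  [1,8,2,8],
  [1,4,4,1],
  [1,3,7,4],
  [1,6,8,5],
  [1,7,5,2],
  [1,5,1,7],
  [0,1,3,3],
  [1,1,6,0],
  [1,2,0,3],
  [1,0,3,6],
  [1,4,8,2],
  [1,7,7,1],
  [1,5,2,5],
  [1,8,1,4],
  [1,3,5,8],
  [1,6,4,7],
  [1,0,2,1],
  [1,1,1,0],
  [0,1,2,2],
  [1,2,0,2],
  [1,5,6,8],
  [1,4,7,6],
  [1,6,5,4],
  [1,8,3,5],
  [1,3,8,7],
  [1,7,4,3],
  [1,1,0,2],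
  [1,2,3,0],
  [1,4,2,5],
  [1,5,5,3],
  [1,8,4,6],
  [0,1,3,1],
  [1,3,8,4],
  [1,7,1,8],
  [1,0,6,1],
  [1,6,7,7],
  [1,3,5,4],
  [1,5,5,6],
  [1,8,5,1],
  [1,6,5,8],
  [1,7,5,3],
  [0,1,0,7],
  [1,2,5,5],
  [1,4,5,2],
  [1,1,5,7],
  [1,0,5,0],
  [1,5,7,3],
  [1,8,7,2],
  [1,3,7,8],
  [1,6,7,4],
  [1,7,7,6],
  [0,1,0,5],
  [1,0,7,0],
  [1,4,7,1],
  [1,1,7,5],
  [1,2,7,7],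
  [1,2,6,0],
  [1,5,7,6],
  [1,1,0,1],
  [1,4,1,7],
  [1,3,4,8],
  [1,0,3,2],
  [1,8,8,3],
  [1,7,2,4],
  [1,6,5,5],
  [0,1,6,2],
  [1,7,3,5],
  [1,1,0,3],
  [1,2,2,0],
  [1,8,5,2],
  [1,4,6,4],
  [1,6,4,8],
  [1,3,7,7],
  [1,5,8,1],
  [1,0,1,6],
  [0,1,2,6],
  [1,4,1,5],
  [1,6,4,5],
  [1,7,6,5],
  [1,3,8,5],
  [0,1,5,0],
  [1,2,7,5],
  [1,5,3,5],
  [1,8,2,5],
  [1,0,0,5],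
  [1,1,5,5],
  [0,1,6,1],
  [1,3,4,4],
  [1,8,8,6],
  [1,7,2,8],
  [1,0,3,1],
  [1,6,5,7],
  [1,8,6,8],
  [1,4,4,3],
  [1,3,1,0],
  [1,1,5,4],
  [1,6,0,2],
  [1,2,8,7],
  [0,1,3,6],
  [1,0,3,3],
  [1,4,8,1],
  [1,5,2,7],
  [1,7,7,2],
  [1,8,1,8],
  [1,6,8,8],
  [0,1,1,6],
  [1,4,3,4],
  [1,0,2,6],
  [1,3,5,7],
  [1,5,4,1],
  [1,3,8,8],
  [1,7,1,4],
  [1,6,7,5],
  [1,0,6,2],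
  [0,1,3,2],
  [1,8,4,3],
  [1,6,4,4],
  [1,0,1,3],
  [1,3,7,5],
  [1,5,8,2],
  [1,4,6,8],
  [0,1,2,3],
  [0,1,6,3],
  [1,7,5,1],
  [1,8,2,4],
  [1,0,6,6],
  [1,5,1,5],
  [1,4,4,2],
  [1,0,2,2],
  [1,7,4,6],
  [1,4,7,3],
  [0,1,2,1],
  [1,5,6,4],
  [1,8,3,7],
  [1,7,4,1],
  [1,3,0,6],
  [1,2,8,5],
  [1,5,2,8],
  [1,1,7,4],
  [1,6,3,0],
  [1,7,8,2],
  [1,1,5,8],
  [1,2,4,7],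
  [1,5,1,4],
  [1,3,0,3],
  [1,6,6,0],
  [1,5,3,8],
  [1,7,8,3],
  [1,0,1,1],
  [0,1,1,2],
  [1,8,6,5],
  [1,4,5,6],
  [1,6,0,1],
  [1,1,7,8],
  [1,8,3,4],
  [1,4,8,6],
  [1,3,2,0],
  [1,2,4,5],
  [1,1,8,5],
  [1,3,0,1],
  [1,6,1,0],
  [1,2,5,8],
  [1,7,6,4],
  [1,7,1,5],
  [1,7,3,8],
  [1,7,2,7],
  [1,2,7,8],
  [1,4,1,8],
  [1,0,0,8],
  [1,1,4,5],
  [1,8,4,2],
  [1,0,4,0],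
  [1,6,2,0],
  [1,4,3,7],
  [1,1,4,4],
  [1,8,8,1],
  [1,1,8,7],
  [1,0,8,0],
  [1,5,8,3],
  [1,3,6,0],
  [1,1,4,8],
  [0,1,8,0],
  [1,0,0,4],
  [1,2,4,4],
  [1,1,8,4],
  [1,5,7,2],
  [1,2,7,4],
  [0,1,0,8],
  [1,5,5,1],
  [1,5,4,6],
  [1,3,0,2],
  [1,1,4,7],
  [1,2,5,4],
  [1,6,0,6],
  [1,8,5,6],
  [1,8,7,3],
  [1,6,0,3],
  [1,3,3,0],
  [1,4,2,4],
  [1,4,6,5],
  [1,2,4,8],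
  [1,1,8,8],
  [1,2,8,4],
  [1,2,8,8],
  [0,1,4,0],
  [0,1,0,4]]

/-- The images of the eightfold unit vectors under a generator. -/
def latMat0 : List (List Int) := [
  [6,-2,0,0,0,0,0,0,-2,-2,0,0,0,0,2,0,0,0,0,-2,0,0,-2,2],
  [0,0,2,2,-2,-2,2,-2,0,0,-2,2,-2,2,0,2,2,-2,2,0,2,2,0,0],
  [0,0,2,-2,2,2,-2,2,0,0,2,2,-2,-2,0,-2,2,-2,2,0,2,2,0,0],
  [0,0,-2,2,2,2,2,2,0,0,-2,-2,2,2,0,-2,2,-2,-2,0,2,2,0,0],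
  [0,0,2,2,-2,2,2,-2,0,0,2,2,2,-2,0,-2,-2,2,-2,0,2,2,0,0],
  [0,0,2,2,2,2,2,2,0,0,-2,2,-2,2,0,-2,-2,2,2,0,-2,-2,0,0],
  [0,0,-2,-2,2,2,2,-2,0,0,2,2,-2,2,0,2,2,2,-2,0,2,-2,0,0],
  [0,0,-2,2,2,-2,-2,-2,0,0,2,2,2,2,0,-2,2,2,2,0,-2,2,0,0],
  [0,0,-2,2,2,-2,2,2,0,0,2,-2,-2,-2,0,2,-2,2,2,0,2,2,0,0],
  [0,0,2,2,-2,2,-2,2,0,0,2,-2,-2,2,0,2,2,2,-2,0,-2,2,0,0],
  [0,0,2,-2,2,2,2,-2,0,0,2,-2,2,2,0,2,-2,-2,2,0,-2,2,0,0],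
  [0,0,2,2,2,-2,2,2,0,0,2,2,2,-2,0,2,2,-2,-2,0,-2,-2,0,0],
  [-2,-2,0,0,0,0,0,0,-2,6,0,0,0,0,2,0,0,0,0,-2,0,0,-2,2],
  [0,0,2,-2,2,-2,-2,2,0,0,-2,2,2,2,0,2,-2,2,-2,0,2,2,0,0],
  [-2,6,0,0,0,0,0,0,-2,-2,0,0,0,0,2,0,0,0,0,-2,0,0,-2,2],
  [0,0,-2,-2,-2,2,2,2,0,0,-2,2,2,-2,0,2,2,2,2,0,-2,2,0,0],
  [2,2,0,0,0,0,0,0,2,2,0,0,0,0,6,0,0,0,0,2,0,0,2,-2],
  [-2,-2,0,0,0,0,0,0,6,-2,0,0,0,0,2,0,0,0,0,-2,0,0,-2,2],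
  [-2,-2,0,0,0,0,0,0,-2,-2,0,0,0,0,2,0,0,0,0,6,0,0,-2,2],
  [0,0,2,-2,-2,-2,2,2,0,0,2,-2,2,2,0,-2,2,2,2,0,2,-2,0,0],
  [0,0,2,2,2,2,-2,-2,0,0,-2,-2,2,-2,0,2,2,2,2,0,2,-2,0,0],
  [0,0,-2,2,-2,2,-2,2,0,0,2,2,2,2,0,2,-2,-2,2,0,2,-2,0,0],
  [-2,-2,0,0,0,0,0,0,-2,-2,0,0,0,0,2,0,0,0,0,-2,0,0,6,2],
  [2,2,0,0,0,0,0,0,2,2,0,0,0,0,-2,0,0,0,0,2,0,0,2,6]]

/-- The images of the eightfold unit vectors under a generator. -/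
def latMat1 : List (List Int) := [
  [5,-1,-1,1,1,-1,-1,-1,-1,1,-1,-1,1,-1,-1,-1,1,-1,-1,1,-1,-1,-3,3],
  [-1,-3,-3,-1,3,1,1,1,1,-1,1,1,-1,-3,1,1,3,1,1,-1,1,1,-1,1],
  [-1,1,1,-1,-1,1,1,-3,1,-1,1,1,-1,1,1,-3,3,1,1,3,-3,1,-1,1],
  [-1,1,1,-1,3,1,1,1,1,3,1,-3,-1,1,1,-3,-1,1,-3,-1,1,1,-1,1],
  [-1,1,1,-1,-1,1,1,1,1,-1,1,1,3,1,-3,1,3,-3,-3,-1,1,1,-1,1],
  [-1,1,1,3,-1,1,1,1,1,3,1,1,-1,-3,1,1,-1,-3,1,-1,-3,1,-1,1],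
  [1,-1,-1,1,1,-1,-1,3,3,1,-1,-1,1,3,-1,-1,1,-1,3,1,-1,3,1,-1],
  [1,3,-1,1,1,3,3,-1,-1,1,-1,-1,1,-1,-1,-1,1,-1,3,1,3,-1,1,-1],
  [-1,1,-3,-1,-1,-3,1,-3,1,3,1,1,3,1,1,1,-1,1,1,-1,1,1,-1,1],
  [1,-1,3,1,1,-1,-1,-1,-1,1,-1,3,1,-1,3,-1,1,-1,-1,1,3,3,1,-1],
  [-1,-3,1,3,-1,1,1,1,1,-1,1,1,3,1,1,-3,-1,1,1,-1,1,-3,-1,1],
  [-1,-3,1,-1,-1,1,1,1,-3,3,1,1,-1,1,-3,1,-1,1,1,3,1,1,-1,1],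
  [-1,1,1,-1,3,1,1,1,-3,-1,-3,1,3,1,1,1,-1,1,1,-1,-3,1,-1,1],
  [-1,1,1,3,-1,-3,1,1,-3,-1,1,-3,-1,1,1,1,3,1,1,-1,1,1,-1,1],
  [-1,1,-3,3,-1,1,1,1,1,-1,-3,1,-1,1,1,1,-1,1,-3,3,1,1,-1,1],
  [-1,1,1,3,3,1,-3,-3,1,-1,1,1,-1,1,-3,1,-1,1,1,-1,1,1,-1,1],
  [-1,1,1,-1,-1,1,-3,1,1,3,-3,1,-1,1,1,1,3,1,1,-1,1,-3,-1,1],
  [1,3,-1,1,1,-1,-1,3,-1,1,3,3,1,-1,-1,-1,1,3,-1,1,-1,-1,1,-1],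
  [1,-1,-1,1,1,3,-1,-1,-1,1,3,-1,1,3,3,3,1,-1,-1,1,-1,-1,1,-1],
  [1,-1,3,1,1,-1,3,-1,3,1,-1,-1,1,-1,-1,3,1,3,-1,1,-1,-1,1,-1],
  [-1,1,1,-1,-1,1,-3,1,1,-1,1,-3,3,-3,1,1,-1,1,1,3,1,1,-1,1],
  [-1,1,1,-1,3,-3,1,1,1,-1,1,1,-1,1,1,1,-1,-3,1,3,1,-3,-1,1],
  [-3,-1,-1,1,1,-1,-1,-1,-1,1,-1,-1,1,-1,-1,-1,1,-1,-1,1,-1,-1,5,3],
  [3,1,1,-1,-1,1,1,1,1,-1,1,1,-1,1,1,1,-1,1,1,-1,1,1,3,5]]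

/-- The images of the eightfold unit vectors under a generator. -/
def latMat2 : List (List Int) := [
  [5,-1,1,-1,-1,-1,-1,-1,-1,-1,1,1,1,-1,-1,1,1,-1,-1,-1,-1,-1,-3,3],
  [-1,1,-1,1,1,1,1,1,1,1,-1,-1,3,1,-3,-1,3,-3,-3,1,1,1,-1,1],
  [-1,-3,-1,-3,1,1,1,1,1,1,-1,-1,3,1,1,3,-1,1,1,1,1,-3,-1,1],
  [-1,1,-1,1,1,1,1,-3,1,1,-1,-1,-1,1,1,3,3,1,1,-3,-3,1,-1,1],
  [-1,1,3,1,1,-3,1,-3,1,-3,-1,-1,3,1,1,-1,-1,1,1,1,1,1,-1,1],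
  [1,-1,1,3,-1,-1,-1,-1,-1,3,1,1,1,3,-1,1,1,3,-1,-1,3,-1,1,-1],
  [-1,-3,-1,1,1,1,1,-3,1,1,3,3,-1,1,1,-1,-1,-3,1,1,1,1,-1,1],
  [1,-1,1,3,3,-1,3,3,-1,-1,1,1,1,-1,3,1,1,-1,-1,-1,-1,-1,1,-1],
  [1,3,1,-1,-1,3,3,-1,-1,-1,1,1,1,-1,-1,1,1,-1,3,-1,3,-1,1,-1],
  [-1,1,3,-3,1,1,1,1,1,1,3,-1,-1,1,1,-1,-1,1,-3,-3,1,1,-1,1],
  [-1,1,-1,1,1,-3,1,1,1,1,3,-1,-1,-3,-3,3,-1,1,1,1,1,1,-1,1],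
  [-1,1,3,1,1,1,1,1,1,1,-1,3,-1,1,-3,-1,-1,1,1,1,-3,-3,-1,1],
  [-1,1,-1,-3,1,-3,1,1,-3,1,-1,3,-1,1,1,-1,3,1,1,1,1,1,-1,1],
  [-1,1,-1,1,1,1,-3,1,1,1,-1,3,3,-3,1,-1,-1,1,1,-3,1,1,-1,1],
  [1,-1,1,-1,-1,-1,-1,3,3,-1,1,1,1,3,-1,1,1,-1,3,-1,-1,3,1,-1],
  [-1,-3,3,1,-3,1,1,1,1,1,-1,-1,-1,-3,1,-1,3,1,1,1,1,1,-1,1],
  [-1,1,-1,1,-3,1,1,1,-3,1,3,-1,3,1,1,-1,-1,1,1,1,-3,1,-1,1],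
  [1,3,1,-1,-1,-1,-1,-1,3,3,1,1,1,-1,3,1,1,-1,-1,3,-1,-1,1,-1],
  [-1,1,3,1,1,1,-3,1,-3,1,-1,-1,-1,1,1,3,-1,-3,1,1,1,1,-1,1],
  [-1,1,-1,1,-3,1,1,1,1,-3,-1,3,-1,1,1,3,-1,1,-3,1,1,1,-1,1],
  [1,-1,1,-1,3,3,-1,-1,-1,-1,1,1,1,-1,-1,1,1,3,-1,3,-1,3,1,-1],
  [-1,1,-1,1,1,1,-3,1,1,-3,3,-1,-1,1,1,-1,3,1,1,1,1,-3,-1,1],
  [-3,-1,1,-1,-1,-1,-1,-1,-1,-1,1,1,1,-1,-1,1,1,-1,-1,-1,-1,-1,5,3],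
  [3,1,-1,1,1,1,1,1,1,1,-1,-1,-1,1,1,-1,-1,1,1,1,1,1,3,5]]

/-- The images of the eightfold unit vectors under a generator. -/
def latMat3 : List (List Int) := [
  [5,-1,-1,-1,-1,-1,-1,1,-1,-1,1,-1,1,-1,1,-1,-1,-1,-1,1,-1,1,-3,3],
  [-1,-3,1,1,1,1,1,-1,-3,-3,-1,1,-1,1,3,1,1,1,1,3,1,-1,-1,1],
  [-1,1,1,1,-3,-3,1,-1,1,1,-1,1,-1,1,-1,1,1,-3,1,3,1,3,-1,1],
  [1,-1,-1,3,-1,-1,-1,1,-1,3,1,-1,1,3,1,-1,-1,3,-1,1,3,1,1,-1],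
  [-1,1,-3,-3,1,1,1,-1,1,1,3,1,-1,1,-1,1,1,1,-3,3,1,-1,-1,1],
  [-1,1,-3,1,1,1,1,-1,1,1,-1,-3,-1,1,3,1,1,1,1,-1,-3,3,-1,1],
  [-1,1,1,-3,-3,1,-3,3,1,1,-1,1,-1,1,3,1,1,1,1,-1,1,-1,-1,1],
  [-1,-3,1,-3,1,1,1,-1,1,1,-1,1,3,1,-1,-3,1,1,1,-1,1,3,-1,1],
  [-1,1,1,1,-3,1,1,-1,-3,1,3,1,3,1,-1,1,1,1,1,-1,-3,-1,-1,1],
  [-1,1,1,1,1,1,1,3,-3,1,-1,1,-1,-3,-1,1,1,1,-3,-1,1,3,-1,1],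
  [-1,-3,1,1,1,1,1,3,1,1,3,-3,-1,1,-1,1,1,-3,1,-1,1,-1,-1,1],
  [1,3,-1,-1,-1,3,3,1,-1,-1,1,-1,1,-1,1,-1,-1,-1,3,1,3,1,1,-1],
  [-1,1,1,1,1,1,-3,-1,1,-3,3,1,-1,1,-1,1,-3,1,1,-1,1,3,-1,1],
  [-1,1,1,1,1,1,-3,-1,1,1,-1,-3,3,-3,-1,1,1,1,1,3,1,-1,-1,1],
  [1,-1,-1,3,-1,3,-1,1,3,-1,1,3,1,-1,1,-1,3,-1,-1,1,-1,1,1,-1],
  [1,-1,-1,-1,3,-1,-1,1,-1,3,1,3,1,-1,1,3,-1,-1,3,1,-1,1,1,-1],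
  [-1,1,1,1,1,1,1,3,1,1,-1,1,-1,1,-1,-3,-3,1,1,3,-3,-1,-1,1],
  [1,3,3,-1,3,-1,-1,1,-1,-1,1,-1,1,3,1,-1,3,-1,-1,1,-1,1,1,-1],
  [-1,1,1,1,1,1,1,-1,1,1,-1,1,3,1,3,1,-3,-3,-3,-1,1,-1,-1,1],
  [1,-1,3,-1,-1,-1,3,1,3,-1,1,-1,1,-1,1,3,-1,3,-1,1,-1,1,1,-1],
  [-1,1,1,1,1,-3,1,-1,1,1,3,1,-1,-3,3,-3,1,1,1,-1,1,-1,-1,1],
  [-1,1,-3,1,1,-3,1,3,1,-3,-1,1,3,1,-1,1,1,1,1,-1,1,-1,-1,1],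
  [-3,-1,-1,-1,-1,-1,-1,1,-1,-1,1,-1,1,-1,1,-1,-1,-1,-1,1,-1,1,5,3],
  [3,1,1,1,1,1,1,-1,1,1,-1,1,-1,1,-1,1,1,1,1,-1,1,-1,3,5]]

/-- The images of the eightfold unit vectors under a generator. -/
def latMat4 : List (List Int) := [
  [5,-1,1,-1,1,-1,-1,-1,-1,1,1,-1,-1,-1,1,-1,-1,1,-1,-1,-1,-1,-3,3],
  [-1,1,-1,1,-1,-3,1,1,1,-1,3,1,1,-3,3,-3,1,-1,1,1,1,1,-1,1],
  [1,-1,1,-1,1,-1,3,-1,-1,1,1,3,3,3,1,-1,-1,1,-1,3,-1,-1,1,-1],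
  [-1,-3,-1,1,-1,1,1,-3,1,-1,3,-3,1,1,-1,1,1,3,1,1,1,1,-1,1],
  [1,-1,1,-1,1,-1,-1,3,3,1,1,-1,-1,3,1,-1,-1,1,3,-1,-1,3,1,-1],
  [-1,1,-1,1,-1,1,1,1,1,-1,-1,1,-3,1,3,1,-3,3,-3,1,1,1,-1,1],
  [-1,1,-1,-3,3,1,-3,-3,1,-1,-1,1,1,1,3,1,1,-1,1,1,1,1,-1,1],
  [-1,1,3,1,-1,-3,1,-3,1,3,-1,1,-3,1,-1,1,1,-1,1,1,1,1,-1,1],
  [-1,1,3,1,-1,1,-3,1,-3,-1,-1,1,1,1,-1,-3,1,3,1,1,1,1,-1,1],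
  [1,3,1,3,1,-1,-1,-1,-1,1,1,-1,3,-1,1,3,-1,1,-1,-1,-1,3,1,-1],
  [1,-1,1,3,1,3,-1,-1,3,1,1,3,-1,-1,1,-1,3,1,-1,-1,-1,-1,1,-1],
  [-1,1,-1,1,3,-3,1,1,1,-1,-1,1,1,1,-1,1,1,3,1,-3,1,-3,-1,1],
  [-1,1,-1,1,3,1,1,1,-3,-1,3,1,-3,1,-1,1,1,-1,1,1,-3,1,-1,1],
  [-1,-3,3,1,3,1,1,1,1,-1,-1,1,1,-3,-1,1,-3,-1,1,1,1,1,-1,1],
  [1,-1,1,-1,1,-1,-1,3,-1,1,1,-1,-1,-1,1,3,3,1,-1,3,3,-1,1,-1],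
  [-1,1,-1,1,-1,1,-3,1,1,3,3,1,1,1,-1,1,-3,-1,1,1,1,-3,-1,1],
  [-1,1,-1,-3,-1,1,1,1,1,3,-1,1,1,-3,-1,1,1,3,1,1,-3,1,-1,1],
  [1,3,1,-1,1,3,3,-1,-1,1,1,-1,-1,-1,1,-1,-1,1,3,-1,3,-1,1,-1],
  [-1,1,3,1,-1,1,1,1,1,-1,-1,-3,1,1,3,1,1,-1,1,1,-3,-3,-1,1],
  [-1,1,-1,1,3,1,1,1,1,3,-1,-3,1,1,-1,-3,1,-1,-3,1,1,1,-1,1],
  [-1,-3,-1,1,-1,1,1,1,-3,3,-1,1,1,1,3,1,1,-1,1,-3,1,1,-1,1],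
  [-1,1,3,-3,-1,1,1,1,1,-1,3,1,1,1,-1,1,1,-1,-3,-3,1,1,-1,1],
  [-3,-1,1,-1,1,-1,-1,-1,-1,1,1,-1,-1,-1,1,-1,-1,1,-1,-1,-1,-1,5,3],
  [3,1,-1,1,-1,1,1,1,1,-1,-1,1,1,1,-1,1,1,-1,1,1,1,1,3,5]]

/-- The images of the eightfold unit vectors under a generator. -/
def latMat5 : List (List Int) := [
  [6,-2,-2,0,-2,0,0,0,0,0,0,0,0,-2,0,0,2,0,0,0,0,0,-2,2],
  [2,2,2,0,2,0,0,0,0,0,0,0,0,2,0,0,6,0,0,0,0,0,2,-2],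
  [-2,-2,-2,0,6,0,0,0,0,0,0,0,0,-2,0,0,2,0,0,0,0,0,-2,2],
  [0,0,0,-2,0,2,2,-2,2,2,2,-2,2,0,-2,2,0,-2,2,2,-2,2,0,0],
  [-2,-2,6,0,-2,0,0,0,0,0,0,0,0,-2,0,0,2,0,0,0,0,0,-2,2],
  [0,0,0,2,0,-2,2,-2,2,-2,-2,-2,2,0,2,-2,0,2,2,2,2,2,0,0],
  [0,0,0,-2,0,2,-2,-2,-2,2,2,2,2,0,2,-2,0,2,2,2,2,-2,0,0],
  [0,0,0,2,0,2,2,-2,2,2,-2,2,2,0,2,2,0,-2,-2,-2,2,-2,0,0],
  [0,0,0,2,0,2,2,2,-2,-2,2,-2,2,0,-2,2,0,2,-2,2,2,-2,0,0],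
  [0,0,0,-2,0,-2,-2,2,2,2,-2,2,2,0,-2,2,0,2,-2,2,2,2,0,0],
  [0,0,0,2,0,2,-2,2,2,-2,2,2,2,0,2,-2,0,-2,-2,2,-2,2,0,0],
  [0,0,0,2,0,2,-2,-2,2,-2,2,2,-2,0,-2,2,0,2,2,-2,2,2,0,0],
  [0,0,0,2,0,-2,2,-2,-2,2,2,2,-2,0,2,2,0,2,-2,2,-2,2,0,0],
  [-2,6,-2,0,-2,0,0,0,0,0,0,0,0,-2,0,0,2,0,0,0,0,0,-2,2],
  [0,0,0,-2,0,-2,2,2,2,-2,2,2,-2,0,2,2,0,-2,2,2,2,-2,0,0],
  [0,0,0,2,0,-2,2,2,-2,2,2,2,2,0,-2,-2,0,-2,2,-2,2,2,0,0],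
  [-2,-2,-2,0,-2,0,0,0,0,0,0,0,0,6,0,0,2,0,0,0,0,0,-2,2],
  [0,0,0,2,0,2,2,2,2,2,-2,2,-2,0,-2,-2,0,2,2,2,-2,-2,0,0],
  [0,0,0,2,0,-2,-2,2,2,2,2,-2,2,0,2,2,0,2,2,-2,-2,-2,0,0],
  [0,0,0,2,0,2,-2,2,-2,2,-2,-2,-2,0,2,2,0,-2,2,2,2,2,0,0],
  [0,0,0,-2,0,2,2,2,-2,-2,-2,2,2,0,2,2,0,2,2,-2,-2,2,0,0],
  [0,0,0,-2,0,2,2,2,2,2,2,-2,-2,0,2,-2,0,2,-2,-2,2,2,0,0],
  [-2,-2,-2,0,-2,0,0,0,0,0,0,0,0,-2,0,0,2,0,0,0,0,0,6,2],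
  [2,2,2,0,2,0,0,0,0,0,0,0,0,2,0,0,-2,0,0,0,0,0,2,6]]

/-- All the lattice matrices. -/
def latMats : List (List (List Int)) := [latMat0,latMat1,latMat2,latMat3,latMat4,latMat5]

/-- The permutations of the 112 vectors. -/
def vecPerms : List (List Nat) := [
  [29,23,78,103,17,49,65,33,104,71,6,100,55,50,18,27,96,38,10,59,22,47,19,42,81,21,52,106,48,31,108,58,109,37,35,41,85,44,16,105,36,73,2,39,57,30,24,97,110,9,95,89,63,101,107,51,90,7,62,60,20,34,0,82,15,14,45,26,69,46,76,84,64,61,111,98,53,25,1,3,83,68,67,13,5,86,102,32,66,91,28,12,92,70,74,80,4,77,43,99,87,93,40,8,79,75,72,94,88,11,56,54],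
  [93,98,108,42,96,40,109,111,37,87,84,89,29,110,106,101,77,64,62,91,26,60,72,46,5,104,80,63,66,79,4,56,41,99,20,58,88,61,69,35,14,65,102,32,34,68,18,97,8,92,28,86,31,54,16,67,7,90,10,43,107,78,83,57,49,76,81,22,105,19,36,94,44,59,39,47,13,23,103,71,55,95,50,53,45,85,21,75,48,38,52,100,9,51,33,30,82,17,25,2,15,11,3,70,24,74,1,6,12,0,73,27],
  [37,102,111,79,66,91,61,60,65,26,35,14,96,69,77,87,80,110,107,27,105,101,54,97,51,75,95,106,71,63,18,55,78,98,57,89,13,104,16,68,2,81,74,33,25,22,73,67,42,47,103,23,21,1,83,72,49,32,41,28,86,58,11,92,85,108,93,56,76,109,45,46,12,40,84,20,31,88,99,48,82,8,38,43,17,29,62,5,7,64,4,90,10,15,0,34,39,100,70,9,19,50,44,30,94,53,24,52,6,36,3,59],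
  [104,50,103,65,109,24,31,95,105,42,108,63,106,97,59,101,15,92,34,91,83,111,64,82,26,69,74,68,54,88,41,36,73,52,48,99,35,94,93,79,77,87,43,107,10,89,56,85,81,72,51,47,96,2,21,8,55,46,62,49,70,86,5,28,102,53,67,20,33,100,18,6,17,29,27,78,80,76,84,98,1,60,71,23,44,110,9,39,22,38,58,30,16,57,37,19,90,45,12,66,14,25,3,32,0,13,7,61,11,40,4,75],
  [104,88,42,2,36,93,101,81,64,52,83,59,68,72,89,96,39,105,54,24,41,25,44,80,20,16,77,97,99,107,70,109,63,110,66,98,22,94,100,19,3,21,40,62,9,73,56,57,78,106,79,67,18,58,4,75,15,53,50,49,108,74,48,43,26,111,47,32,35,91,31,95,5,33,60,6,82,7,51,34,8,23,65,14,92,103,85,90,29,13,71,87,69,10,0,84,55,28,11,17,27,46,86,102,37,38,12,1,76,45,30,61],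
  [37,29,42,40,26,46,13,22,18,23,49,5,14,35,55,10,98,93,111,101,106,96,108,110,84,87,109,89,69,107,32,50,54,47,45,91,43,104,71,72,102,83,103,31,53,48,92,36,44,95,52,33,51,30,34,90,20,60,80,19,63,66,76,64,79,78,77,61,21,41,8,39,28,7,4,16,58,62,81,65,67,57,9,38,27,2,3,17,1,25,11,15,12,24,0,6,105,68,99,56,75,97,86,85,94,59,100,88,70,82,74,73]]

/-- The permutations of the quadruples. -/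
def ptPerms : List (List Nat) := [
  [237,124,236,21,239,208,114,214,10,238,203,113,205,207,40,204,202,153,91,206,234,244,8,258,160,85,220,209,116,58,44,79,34,55,86,120,25,147,94,111,167,171,169,131,80,90,166,170,140,168,278,277,194,45,163,88,242,38,18,254,197,268,182,119,138,261,266,215,37,48,106,178,251,115,32,221,250,210,249,84,136,104,121,112,0,15,87,74,97,47,265,127,193,235,83,185,270,253,41,157,69,62,61,66,68,63,64,65,67,60,109,82,57,117,134,156,12,27,42,148,89,248,183,279,245,274,189,29,9,49,118,264,200,46,219,257,164,269,149,7,172,110,175,174,176,151,177,81,173,70,53,103,228,229,43,73,231,227,226,230,14,154,133,98,30,129,260,24,222,246,35,54,100,105,107,108,101,102,217,256,137,123,144,276,122,199,198,71,196,201,233,6,187,213,99,128,181,141,180,50,179,152,273,272,36,247,241,3,125,11,252,232,184,56,190,142,195,192,51,191,19,262,165,59,225,78,76,52,126,20,1,155,275,139,17,218,243,31,216,75,132,26,92,135,13,159,130,28,39,259,263,211,255,33,96,271,240,2,16,224,162,143,4,158,161,150,145,5,146,186,223,77,22,23,267,72,212,93,95,188],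
  [210,12,215,61,226,172,9,202,120,168,68,2,159,103,96,143,119,88,24,125,19,32,43,132,92,142,122,151,8,26,241,229,127,272,273,117,36,247,167,3,98,53,154,129,89,14,30,133,69,118,228,269,15,249,65,268,166,157,25,244,63,39,73,6,28,141,11,113,83,130,22,90,50,4,41,62,13,110,31,100,263,262,156,0,64,34,252,211,217,259,231,27,121,169,205,60,219,209,173,38,227,223,112,218,213,199,29,33,171,150,230,222,212,5,170,18,111,152,196,216,238,208,124,236,237,214,10,21,114,239,7,17,123,51,153,101,72,37,23,80,115,1,126,52,66,45,131,76,155,20,67,128,35,77,49,16,158,140,116,102,94,242,177,178,235,134,145,99,201,245,265,161,267,257,191,139,84,207,91,184,195,82,165,181,42,221,220,93,225,224,279,240,95,176,192,109,264,250,189,266,234,194,276,251,193,261,275,162,57,55,58,59,54,56,74,47,136,97,87,104,44,106,260,256,198,190,188,206,148,78,246,254,179,108,86,203,248,253,204,164,48,46,40,258,147,277,271,137,270,149,138,70,186,185,187,135,274,233,79,200,183,175,243,278,232,163,255,180,146,144,197,182,107,85,105,81,174,71,160,75],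
  [0,211,252,262,217,263,259,34,64,156,78,85,152,137,107,21,46,36,99,61,41,4,110,31,100,22,62,50,13,90,253,248,68,170,74,164,237,32,57,204,108,276,179,66,241,213,86,203,19,264,228,35,208,1,165,184,82,181,91,195,59,158,278,186,97,28,210,200,273,243,95,109,39,126,176,279,212,269,192,240,37,48,182,261,119,138,215,197,268,266,123,93,63,42,220,225,222,221,223,224,256,33,257,76,185,258,96,255,12,180,144,145,140,146,148,143,149,141,147,142,154,53,69,30,129,89,133,98,118,14,260,72,65,267,183,271,163,232,92,117,7,227,67,238,235,177,134,242,178,94,169,60,231,38,173,209,121,27,219,205,106,198,236,6,44,190,23,101,153,51,17,80,150,54,84,75,3,10,103,226,230,229,43,73,81,5,135,105,40,124,49,116,102,77,128,16,265,8,239,171,79,207,157,9,139,56,71,114,188,58,159,47,201,168,254,151,245,104,167,55,70,2,161,166,214,191,155,131,20,45,115,52,83,270,127,193,249,218,206,246,174,172,175,274,29,189,160,244,234,24,125,88,87,275,187,216,196,111,18,136,130,132,112,15,120,162,122,113,26,25,251,11,199,272,250,247,202,277,233,194],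
  [0,74,121,97,104,136,15,47,112,87,200,269,149,257,164,7,219,46,264,118,79,34,55,44,120,94,111,147,25,86,182,261,119,138,197,215,37,48,266,268,130,63,141,113,11,73,39,6,28,83,208,41,72,211,210,209,212,143,213,133,243,31,245,244,203,134,75,216,125,190,179,161,42,166,2,186,70,214,30,191,40,135,145,65,59,33,105,5,124,81,167,241,117,272,247,273,127,3,229,36,151,43,92,122,8,132,19,32,26,142,254,246,4,249,206,78,218,148,188,129,155,1,115,45,131,126,76,66,52,20,157,71,114,93,146,139,9,38,108,56,217,228,110,123,278,137,256,248,144,276,158,116,35,49,16,77,140,67,102,128,150,152,153,156,159,154,178,160,187,14,24,192,226,253,95,198,252,23,165,181,91,184,195,82,240,64,180,162,233,80,13,50,100,62,90,22,265,263,17,231,201,99,239,259,96,173,196,51,220,223,225,221,222,224,183,271,260,163,232,267,199,262,172,237,101,98,275,255,242,274,54,107,109,207,171,69,10,103,175,193,205,270,250,204,227,85,202,236,88,235,169,279,176,68,234,106,18,58,29,185,12,258,53,21,168,61,170,57,177,238,60,27,230,174,84,251,277,189,194,89],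
  [0,121,112,15,97,136,87,74,47,104,10,206,103,200,183,34,193,220,131,175,127,3,273,241,117,36,247,229,272,167,29,28,23,24,21,27,25,22,20,26,260,186,227,146,85,126,204,259,13,261,210,215,120,9,12,61,202,226,168,172,16,102,158,67,140,35,128,77,116,49,171,232,184,56,252,11,125,251,174,46,145,265,231,161,17,201,99,263,115,245,59,169,165,235,78,19,119,262,279,225,243,240,162,114,64,246,80,180,233,43,278,137,217,256,144,123,276,228,248,110,107,211,255,242,54,113,122,166,275,274,266,124,250,189,73,264,156,194,90,234,5,212,216,111,18,222,196,152,230,170,14,69,133,154,89,129,53,30,98,118,267,223,147,1,253,173,33,65,105,81,135,40,109,182,207,239,8,79,72,213,143,209,41,208,205,2,199,271,270,55,83,218,92,214,52,219,138,4,86,192,237,224,106,6,198,190,236,44,60,188,101,185,132,187,150,100,130,163,160,164,238,7,134,178,94,177,108,71,38,157,139,93,91,149,58,70,84,95,75,48,142,268,76,141,39,63,148,249,254,37,51,153,203,179,66,96,88,68,159,197,82,62,176,221,57,42,50,181,31,32,191,195,269,244,257,258,277,155,45,151],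
  [0,156,64,34,263,217,259,262,252,211,10,239,208,236,124,21,114,237,214,238,117,3,247,272,127,36,273,167,241,229,65,269,268,228,15,157,25,244,166,249,123,223,63,222,224,42,225,221,220,93,77,98,27,5,193,162,275,261,251,276,131,133,132,130,136,137,134,139,138,135,62,122,199,196,197,200,82,71,201,198,172,110,151,173,175,174,177,176,70,81,202,153,205,113,207,206,91,203,40,204,88,45,38,18,163,278,277,194,242,254,50,52,53,51,54,57,56,55,59,58,143,140,142,141,144,149,148,147,146,145,96,12,76,33,257,256,185,180,258,255,9,49,89,29,183,248,274,189,245,279,103,100,102,101,105,109,104,107,108,106,125,68,24,2,119,159,61,120,210,168,215,226,41,90,31,13,4,22,128,67,35,158,116,16,155,1,66,126,115,20,118,69,129,14,30,154,92,8,26,43,19,32,72,7,37,80,17,23,150,171,213,112,218,227,60,209,219,121,231,169,11,6,83,73,28,39,212,230,152,111,216,170,271,260,232,267,75,48,84,95,246,94,191,264,46,164,265,79,182,99,233,187,87,266,161,195,181,165,184,97,270,160,47,74,235,253,234,250,85,78,243,240,44,86,190,192,178,186,179,188]]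

/-- The unitary matrices. -/
def uniMats : List (List (List Nat)) := [
  [[4,8,4,1],[5,5,2,7],[5,6,0,2],[6,8,2,0]],
  [[8,7,3,8],[4,7,6,4],[4,0,1,1],[3,0,3,5]],
  [[6,0,6,8],[0,1,8,1],[8,2,5,7],[3,8,7,7]],
  [[2,0,7,3],[0,1,6,8],[5,1,3,0],[1,4,0,3]],
  [[4,5,0,0],[5,4,0,0],[0,0,4,5],[0,0,7,8]],
  [[1,0,0,0],[0,3,0,0],[0,0,8,7],[0,0,5,4]]]

/-- The scalars. -/
def ptScal : List (List Nat) := [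
  [8,8,6,7,5,4,3,2,5,1,6,3,6,6,4,1,7,8,2,5,7,5,8,4,5,2,2,6,3,1,3,3,3,3,3,3,4,3,3,3,6,1,8,7,4,4,5,3,2,1,2,6,1,7,8,2,4,3,3,5,1,5,7,3,8,6,6,7,4,2,5,5,5,4,5,5,5,5,5,5,4,7,2,3,1,5,4,6,8,1,1,4,3,7,6,3,2,8,8,5,2,1,8,7,4,2,6,5,3,3,4,1,6,3,6,3,2,7,8,5,8,2,6,1,1,1,3,7,4,5,3,2,1,6,4,8,7,5,1,5,5,3,4,1,6,2,8,7,5,1,4,8,5,7,6,2,1,2,6,3,4,8,1,6,7,5,4,7,3,5,8,6,7,3,2,6,3,1,8,6,4,6,7,1,1,1,1,1,4,1,7,2,3,8,1,7,6,4,1,8,4,3,2,8,6,5,5,1,5,8,4,7,3,2,7,6,2,2,5,4,4,2,6,2,1,5,7,7,7,7,7,7,8,8,1,5,4,2,3,8,3,7,3,2,6,1,5,7,1,5,1,7,4,6,5,2,8,6,7,4,2,4,5,6,1,4,1,3,8,3,1,4,7,7,1,2,3,7,5,4],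
  [6,3,2,7,8,1,4,1,6,5,5,8,1,3,4,6,2,7,5,2,1,2,6,3,6,4,4,5,7,8,5,5,5,5,5,5,6,5,5,5,6,6,5,3,7,5,2,8,1,4,4,8,6,1,3,2,5,8,6,7,5,2,4,3,4,1,8,2,7,6,3,5,4,1,2,8,7,1,2,6,4,4,8,4,6,2,1,3,5,7,1,6,8,5,3,4,3,7,8,2,7,7,3,8,4,5,1,2,5,6,2,3,1,6,5,8,8,7,5,4,4,5,1,2,8,6,2,7,6,3,2,2,2,2,2,2,2,2,2,5,6,1,7,6,2,3,5,8,4,6,1,8,2,6,3,4,3,5,7,1,4,8,6,5,3,1,4,7,3,5,8,6,2,5,1,3,7,6,8,3,1,7,6,3,4,8,7,1,1,6,4,6,3,4,5,2,3,3,6,2,7,4,6,6,6,5,6,6,6,5,7,8,1,3,1,8,4,2,7,5,1,4,7,5,6,8,4,4,2,7,6,5,5,8,7,3,3,4,7,6,2,7,5,7,3,1,1,7,2,2,2,3,7,1,5,5,2,6,4,1,8,4,6,3,4,6,7,6,7,8,2,2,7,7,7,7,2,5,5,1],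
  [4,6,6,6,6,6,6,6,6,6,8,3,2,7,1,6,5,8,4,8,2,6,5,4,3,7,1,7,2,8,8,2,4,3,6,7,3,5,6,1,5,5,5,7,1,2,4,6,8,3,3,2,1,6,4,8,5,4,7,7,1,8,1,5,6,4,3,8,2,7,2,7,3,4,6,8,8,1,5,4,8,8,4,4,3,1,2,6,7,5,8,3,7,1,5,7,4,6,7,2,1,7,2,8,6,6,5,2,4,3,4,3,6,7,8,1,3,5,2,1,6,6,2,8,7,2,5,1,4,3,8,7,5,4,1,2,6,3,1,3,6,4,3,5,2,1,3,7,8,8,5,3,7,1,4,4,6,2,8,5,7,7,4,6,3,2,5,2,3,4,1,3,3,5,7,1,6,3,8,2,1,5,2,6,8,6,4,4,5,2,7,1,4,3,5,1,6,6,3,1,5,8,4,6,8,2,2,8,2,2,1,6,8,7,3,7,5,6,4,8,4,6,2,1,7,3,5,2,1,4,7,3,1,5,3,7,2,5,4,1,2,8,3,3,8,4,1,8,7,7,5,2,6,8,1,5,4,7,5,6,8,6,6,6,1,5,4,2,3,1,4,7,3,7,1,8,5,8,7,3],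
  [3,2,2,2,2,2,2,2,2,2,3,6,1,3,8,2,5,4,1,7,4,2,5,1,6,2,8,3,6,7,7,7,1,6,2,3,5,5,4,8,5,1,4,3,8,2,1,2,7,6,6,3,8,2,1,7,5,6,3,4,8,7,4,5,2,1,6,3,4,3,4,3,6,6,2,4,7,8,5,1,3,7,1,4,6,8,7,2,3,5,7,6,2,8,5,3,1,2,4,5,8,3,6,7,2,7,5,4,1,6,1,6,2,3,7,4,4,5,3,8,4,2,8,7,3,8,5,8,1,6,7,3,5,1,8,5,2,6,4,5,2,1,4,5,6,8,6,3,7,3,5,6,3,8,6,1,2,1,7,4,2,3,1,2,6,2,5,6,6,1,8,4,5,5,3,8,2,4,7,8,8,5,8,4,7,2,1,4,1,1,3,8,1,6,5,4,7,2,6,8,5,7,1,2,4,8,7,7,4,8,8,2,7,3,6,3,5,2,1,7,1,2,5,4,3,6,5,3,8,1,4,6,8,5,6,3,1,5,1,8,4,4,6,6,7,1,4,7,3,3,4,5,2,7,8,1,4,3,5,2,7,7,2,2,8,5,1,2,6,4,1,3,6,3,8,7,5,7,2,5],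
  [5,5,5,5,5,5,5,5,5,5,7,3,3,3,3,3,3,3,3,3,1,1,1,1,1,1,1,1,1,1,7,7,7,7,7,7,3,7,7,7,2,5,6,4,7,8,1,3,5,7,2,6,3,1,5,7,8,5,4,7,5,1,8,7,7,3,6,5,2,4,2,6,4,5,3,5,7,8,1,7,5,6,2,4,5,1,7,3,7,8,4,6,5,2,7,5,8,3,7,1,6,2,5,7,3,5,7,1,4,8,7,7,3,8,1,5,2,5,6,4,7,3,7,8,1,5,4,5,6,2,2,7,6,5,7,4,3,1,8,5,1,6,2,3,5,8,7,7,4,5,5,8,1,7,5,2,7,3,4,6,5,7,3,1,4,8,3,5,7,6,8,2,5,4,5,7,1,3,8,5,5,4,7,7,7,1,8,4,5,3,8,4,7,7,5,5,5,1,3,4,7,5,4,1,5,5,7,3,1,7,2,7,6,8,1,6,2,7,7,8,7,1,4,5,3,5,8,6,3,5,7,2,6,7,8,2,1,1,1,1,2,5,4,6,3,4,8,5,6,3,6,4,7,7,6,5,4,2,6,7,2,5,7,7,7,6,2,8,3,3,8,7,5,5,2,6,2,2,5,5],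
  [7,1,1,1,1,1,1,1,1,1,5,1,1,1,1,1,1,1,1,1,1,1,1,1,1,2,1,1,1,1,1,1,1,1,1,1,6,1,1,1,1,3,1,1,1,1,1,1,1,1,1,1,1,1,1,1,1,3,1,1,1,1,1,1,1,1,1,3,1,1,1,1,1,3,1,1,1,1,1,1,3,1,1,1,1,1,1,1,1,1,1,1,3,1,1,1,1,1,1,1,1,1,1,1,1,3,1,1,1,1,1,1,1,1,1,3,1,1,1,1,1,1,1,1,1,3,1,1,1,1,1,1,1,1,1,1,1,1,1,3,1,1,1,1,1,1,1,1,1,3,1,1,1,1,3,1,1,1,1,1,3,1,1,1,1,1,1,1,1,1,1,1,3,1,1,1,1,1,1,3,1,1,1,1,1,1,1,1,3,1,1,1,1,1,1,3,3,1,1,1,1,1,1,1,1,3,1,1,1,1,1,1,1,1,1,1,1,1,1,1,1,1,1,3,1,1,1,1,1,1,1,1,1,1,1,1,1,1,1,1,1,1,1,1,1,1,1,1,1,1,1,1,1,1,1,3,1,1,1,1,1,3,1,1,1,1,1,1,1,1,1,1,1,1,1,1,1,1,3,3]]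

/-- Words moving the point `0`, sorted by the image. -/
def chainA : List (List Nat) := [
  [],
  [1,1,0,1,1,0,1,0],
  [0,0,1,0,0,1],
  [0,1,0,0,1,0,0,1,0],
  [0,0,1,1,1,0],
  [0,0,0,1,1,0,1,0,0],
  [0,1,0,1,0,0,1,1,1],
  [1,1,0,1,0,0,0],
  [0,0,1,0,1,0],
  [0,0,1,0,0,1,0,1],
  [1,1,1,1,1,1],
  [0,0,1,0,0,1,1],
  [0,0,1,1,0,0,0,0],
  [0,0,1,0,0,0,1,1],
  [0,0,1,0,1,1],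
  [0,0,1,1,1],
  [0,1,1,0,1,1,1,0],
  [0,0,0,1,0,0],
  [0,1,1],
  [1,0,1,0,0],
  [0,1,0,0],
  [1,0,0,0,1,1],
  [0,1,0,1,0],
  [1,0,1,0,0,0,0],
  [1,0,1,1],
  [1,1,1],
  [1,1,1,1,1,1,0],
  [1,0,0,1,1],
  [1,1,0,0,0,0],
  [1,1,1,1,1,0],
  [1,1,0,1,1,1,0,0,0],
  [0,0],
  [1,1,0,0,0,1,1],
  [0,1,0],
  [1,0,1,1,1],
  [1,0,0,1,0,1,0,1],
  [0,0,0,0,1,1,1],
  [1,0,0,0,1,0,1],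
  [1,0,0,0,1,1,0,0,0],
  [0,0,1,1,1,0,1,1],
  [0,0,0,1,0,1,1],
  [1,0,0,1,0,0,1,0,0],
  [0,0,1,0,1,0,0,0],
  [1,0,1,0,1,0],
  [1,1,1,0,1],
  [1,0,1,0,1,1,0],
  [1,0,1,1,1,0,0,0],
  [0,1,1,1,1,0,1],
  [0,0,1,0,0,0],
  [0,1,1,0,1,0,1,0],
  [0,0,1,1,0],
  [1,1,0,1,1,1,1,0,1],
  [0,1,1,0,0,0],
  [0,1,0,1,0,0,0,0,1],
  [0,1,0,0,1,1,1,1],
  [0,0,1,0],
  [0,0,0,1,1,0,1,1],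
  [1,1,1,1,1,0,1,1],
  [1,1],
  [0,1,1,1,0,0,1],
  [1,0,0,0,0,1,1,0],
  [0,0,0,0,1,0,0,1,0],
  [0,1,1,0,0,1],
  [0,1,0,1,1,0,1,0,0],
  [1,0,0,0,0],
  [0,1,1,0,1,0],
  [1,0,1,0,0,0,1],
  [0,0,0,1,1,1,1],
  [1,1,1,1,1,1,1],
  [0,1,0,0,0],
  [0,1,0,1,1,0,0],
  [0,0,0,1,0,0,0,1,0],
  [0,1,1,1,1,0,0,0],
  [1,0,1,1,0,0,1],
  [0,0,1,0,0,1,0,0],
  [0,0,0,0,1,1,1,0],
  [0,1,0,0,1,1,1,0],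
  [0,0,0,0,1],
  [1,1,0,0],
  [0,0,0],
  [0,1,1,1,0,1],
  [1,1,1,1,1,0,0,0],
  [0,1,0,1,1,0,0,0,0],
  [0,1,0,1,0,1,1],
  [0,0,0,0],
  [0,1,1,1],
  [1,0,0,1,0,0],
  [0,1,0,0,1,0,0],
  [0,0,0,1,0],
  [1,1,1,1,0,1],
  [0,1,0,1,0,1,1,0],
  [0,0,1,1],
  [1,1,0,1,1],
  [1,0,0,1,0,0,0,1,0],
  [1,0,1,0,1,1],
  [0,0,0,0,1,1,0],
  [1,0,0,1,0,1,1],
  [0,0,0,0,1,0],
  [1,0,0,0,1,0,1,1],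
  [0,0,0,1,1,0,0,0],
  [1,0,0,0],
  [1,1,0,0,1],
  [0,0,0,1,0,0,1,0],
  [0,1,1,0,0,1,1],
  [0,1,1,1,1,1,0,0,0],
  [1,0,1,1,0,1,0,0],
  [1,1,1,1,0],
  [1,1,0,1,0],
  [0,0,1,1,1,1],
  [0,1,0,0,0,0,1],
  [1,0,0,0,0,1],
  [1,0,1,1,0,0,0,0],
  [0,0,1,0,1,0,1,1],
  [0,0,0,1,0,0,1,1],
  [1,0,1,0,0,1,0,1],
  [1,0,0,0,1,0,0,0],
  [0,1,1,0,0,0,0],
  [1,1,0,0,1,0,1,0,1],
  [0,1,0,1,0,0,0],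
  [1,0,1,1,0,1,1,1,0],
  [1,0,0,1,0,1,0],
  [1,1,1,0,1,1],
  [1,1,1,1,1,1,1,0],
  [1,1,1,0,1,0,0,0,0],
  [0,1,1,0,1,1,0,1,0],
  [1,1,0,1,0,0],
  [1,1,1,1,1],
  [0,0,0,1,1],
  [0,1,0,0,1,0,1],
  [1,1,0,1,0,1,0],
  [1,0,1,0,0,0],
  [1,0,1,0,0,1,0],
  [1,1,0,1,0,0,0,0],
  [1,0,1,1,1,1,0,1],
  [1,1,1,0,0,0,1],
  [1,0,0,1],
  [0,0,1,1,1,0,1],
  [0,0,0,1,0,1],
  [0,1,0,0,0,0],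
  [1,0,1,1,1,1],
  [0,0,0,1,0,0,0],
  [1,0,1,1,0,1,0],
  [1,1,1,1],
  [1,0,0,1,1,1],
  [0,1,0,0,0,1],
  [0,1,0,1,1,0],
  [0,1,0,0,1,0],
  [0,1,0,0,0,1,0,1],
  [1,1,0,0,1,1,0],
  [1,0,1,1,0,0],
  [1,0,1,0,0,0,0,1],
  [1,1,0,0,1,1],
  [0,0,1,0,1,0,1],
  [0,0,0,0,1,0,0],
  [1,0,0,1,0,1,0,0,0],
  [1,1,1,0,0,1,1,0],
  [0,1,0,0,0,1,0,0,0],
  [0,0,0,0,1,1,0,0,0],
  [0,1,0,1,1,1,0,1],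
  [1,0,0,1,1,0,0,0,0],
  [0,1,0,1,1],
  [1,1,0,0,1,1,1,1],
  [1,1,0,0,1,0,0,1,0],
  [0,0,1,0,0,1,1,1,1],
  [1,0,0,0,1,1,1,0],
  [1,1,0,0,0,1],
  [0,1,0,1,1,1,0,0,0],
  [0,0,0,0,1,0,1,1],
  [0,0,1,1,0,1,0,1,0],
  [0,0,0,1,0,1,0,0,0],
  [0,0,1,1,1,1,0,1],
  [1,0,0,1,1,1,1],
  [0,0,0,0,1,0,0,0],
  [0,1,1,0,0,1,1,0],
  [0,1,0,0,1,1,1],
  [0,1,1,1,1],
  [0,0,1,0,0,0,1],
  [0,0,1,0,0,1,0],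
  [0,0,0,0,1,0,0,0,1,0],
  [0,1,0,0,1,1,0,0],
  [0,0,1,0,1],
  [0,1,0,1,0,1,0,0,0],
  [1,0,0,0,1],
  [0,1,1,1,1,1,1,1,0],
  [1,0,1,0,0,1,1,0,0],
  [1,1,0],
  [1,0,1],
  [0,0,1,0,0,0,1,0],
  [1,1,0,0,1,1,1,0],
  [1,0,1,0,1],
  [0,1,1,1,0,1,0,0],
  [1,0,1,0,0,1,1,1],
  [0,1,0,0,0,1,0],
  [0,1,1,0,1,1],
  [0,0,1,1,0,0,0],
  [1,0,0,1,0,1],
  [1,0,1,0,1,0,0,0],
  [0,1,0,0,0,0,1,1,0],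
  [0,1,0,1],
  [0,1,1,0],
  [1,0,0,1,1,0,0],
  [0,1,0,1,0,1],
  [1,1,1,0,1,0,0,0],
  [0,1,1,1,1,1,1],
  [0,0,0,1,1,1],
  [1,1,0,1,0,1,1],
  [1,1,1,0,0,0],
  [1,0,0,1,0,0,1,0],
  [1,1,1,1,0,1,1],
  [0,1,0,0,1,1],
  [1],
  [1,0,1,0,0,1,0,0],
  [1,0,0,1,0,1,0,1,1],
  [0,0,1,1,0,1,1],
  [1,1,1,0,1,0,0],
  [1,0,0,1,0,0,1],
  [0,1,1,0,0,1,0,1,0],
  [1,0,0,0,1,0],
  [1,0,1,1,0,0,1,1],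
  [0,1,1,1,0,0,0,1],
  [1,1,0,1],
  [1,1,1,0],
  [1,1,0,1,1,0,0,0,0],
  [1,1,1,0,0,1],
  [1,1,0,1,0,1],
  [0,1,1,0,1,0,1],
  [1,0,0,1,1,1,0],
  [1,1,0,0,0],
  [1,0,0,1,1,0],
  [1,0,0],
  [1,1,0,0,0,0,1],
  [1,0,1,0,1,0,1,1,0],
  [0,1,0,1,0,0,1,0,0],
  [1,0,1,0,0,1],
  [0,0,1,0,0],
  [1,1,0,0,0,1,1,1,0],
  [0,0,0,1,0,0,1],
  [0],
  [1,1,0,0,1,0,1,0],
  [0,0,0,1,1,1,0],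
  [0,1,1,1,1,0,0,1],
  [0,1,1,1,0,0,0],
  [0,0,0,0,1,1,0,1,1],
  [1,0,1,1,1,0],
  [0,1,0,0,0,1,1],
  [1,0,0,0,1,0,1,0,0,0],
  [1,1,1,0,0,0,0,1],
  [1,1,0,0,0,1,0,1],
  [0,1,1,1,0,1,1],
  [0,1,1,0,0],
  [0,0,1,0,0,1,1,1,0],
  [1,0,1,1,1,1,1,1],
  [0,1],
  [1,0],
  [0,0,1,1,1,0,0,1],
  [0,0,1],
  [1,1,1,1,0,0,1],
  [0,1,0,0,1],
  [1,1,0,1,1,1,0],
  [0,0,1,1,0,0],
  [1,1,1,0,1,1,0,0,0,0],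
  [0,0,1,1,0,1,0],
  [0,1,1,1,0],
  [1,0,1,1,1,0,1],
  [0,1,0,1,0,0,1,0],
  [0,0,1,0,1,0,1,1,0],
  [1,0,1,1,0],
  [0,0,1,1,0,1,0,0],
  [1,0,0,1,0],
  [0,0,0,0,1,0,1],
  [0,1,0,0,1,0,1,1],
  [0,0,0,1],
  [1,0,1,0],
  [1,1,0,1,1,1],
  [0,1,1,0,1,0,0],
  [1,1,1,1,0,0,0],
  [1,1,1,1,0,1,0,0,0],
  [0,1,1,0,1,1,1,1,0,1],
  [0,0,0,1,1,0],
  [1,0,1,1,1,0,1,0,0]]

/-- Words moving the point `10`, sorted by the image. -/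
def chainB : List (List Nat) := [
  [],
  [3,2,2,2,3,2,3,3],
  [2,2,2,2,3,3,3,2,3],
  [2,3,3,3,3,3,3,3],
  [2,3,2,2,2,2,2,3],
  [2,3,3,3,2],
  [2,2,2,3,2,3,3,3],
  [3,2,3,2,2],
  [2,3,3,3,3,3,3],
  [2,2,3,3,2,3],
  [3,3,3,3,2],
  [3,2,2,2,2,2,2,2],
  [2,3,3,2,3,3,2],
  [3,3,3,3,3,3,3,3],
  [2,2,2,3,2,2,3,2],
  [3,3,3,2,3,2,3,3],
  [3,3,3,3,3,3,3],
  [2,3,2,3,2,2,2],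
  [3,2],
  [3,3,2,2,2,3,2,2],
  [2,3,3,3,3,3],
  [2,3,2,3,3,3],
  [2,3,2,3,3],
  [3,3,3,3],
  [3,3,3,3,3],
  [3,3,2,2,2,2,2,2],
  [3,2,2,3,3,3,2],
  [2,2,3,3,3,2,3],
  [3,3,2,3,3],
  [2,2,2,3,2,2,2,2],
  [2,3,3,2],
  [2,2,2,3,2,3,3],
  [2,3,3,2,3,2,2,2,3],
  [2,2,3,3,3,2],
  [3,3,3,3,3,3],
  [3,2,2,3,3,2,2,2,2],
  [3,3,2,3],
  [3,2,3,3],
  [3,2,2,3,3,2,2,3,2],
  [2,3,3,2,2,3],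
  [3,3,3,3,3,2],
  [2,3,2,2,3],
  [3,3,3,2,3,3,3,2],
  [3,2,2,2,2],
  [2,2,3,3,2,2],
  [2,3,3,2,2],
  [3,2,2,2,3,2,2],
  [2,2,2,2,3,2,2,3,2],
  [2,3,2,2,2],
  [3,2,3,3,2,3,2,3],
  [2,2,3,3,2],
  [2,2,2,2,2,2,2,3],
  [3,2,3,2],
  [3,3,3,3,2,3,3,2],
  [2,3,3,3,3,2,3],
  [2,3,2,2,3,3],
  [2,2,3,3,2,3,2,2,2],
  [2,3,2,2,3,3,3],
  [3,2,2,3,3,2],
  [3,3,3,3,2,3,2],
  [3,3,2,3,3,2,3,2,2],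
  [2],
  [2,3],
  [2,2,2,2,2,3,2,3,2],
  [3,2,3,3,2,3,2],
  [2,2,3,2,2,3],
  [2,3,3,2,3,2,3],
  [2,2,2,2,3],
  [2,3,2,2,2,3,2,3,3],
  [2,2,2,3,3,3,2],
  [2,3,2,2,3,2],
  [2,3,3,2,3,2],
  [2,2,3,2,3,2,2,2],
  [2,3,2,2,2,2],
  [3,2,2,2],
  [2,2,3,2,2,2,2],
  [2,2,2,3,2,3],
  [3,2,2,2,3],
  [3,3,3,2,3,3,2,2],
  [3,2,3,2,2,2,3],
  [3,3,3],
  [3,2,2],
  [3,2,3,3,3],
  [2,2,2],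
  [3,2,3,3,3,3],
  [3,2,2,2,3,3,3,2],
  [2,2,3,2,2,2,2,2],
  [3,3,2,2,2,3,2,3,2],
  [2,2,2,3,3,3,2,3],
  [3,3,3,2,3,2,3],
  [2,3,3,3,3,2],
  [2,2,2,2,2],
  [3,2,3,3,2],
  [2,2,3,3],
  [2,3,2,2,3,2,3,2],
  [2,3,2,3],
  [3,3,2,2,2],
  [3,2,3,3,3,3,3,3],
  [2,2,2,2,2,3],
  [2,3,3,2,3,2,2],
  [3,3,2,3,3,3,3],
  [2,2,2,3,2,3,2,2,2],
  [3,2,3,2,2,3,2],
  [3,3,2,3,2],
  [3,3,3,2,3,2],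
  [2,3,2,2,2,3,3,3],
  [2,2,3,3,2,2,3,2],
  [3,2,2,2,2,2,3],
  [3,2,2,3,3,3,2,3],
  [2,3,3,2,3,2,2,2],
  [3,3,2,2,2,3,3,3,2],
  [3,2,2,3,3,2,2],
  [2,2,3,2,3,3,2],
  [2,2,2,3,2,2,2],
  [3,2,2,2,2,2,2],
  [3,2,3,2,3,3,3],
  [3,2,2,2,3,2,2,2],
  [2,3,3,2,2,2],
  [2,2,2,2,2,2,3],
  [2,2,3,2,2,3,2,3,2],
  [3,2,2,2,3,3],
  [2,2,2,2,2,2],
  [2,3,2,3,3,2],
  [3,3,3,3,2,3,2,3,3],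
  [2,2,2,3,3],
  [2,2,3,2,3],
  [3,2,3,2,2,2,2,2],
  [3,3,2,2],
  [3,3,2,3,2,2,3,3],
  [2,2,3,3,2,2,2,2],
  [2,2,3,3,2,3,2,2],
  [3,2,3,3,2,3,2,2],
  [2,3,3,2,2,2,2,2],
  [2,3,2,2,2,3,2,2],
  [2,2,2,2,3,3,2],
  [2,3,2,2,2,2,2],
  [3,2,3,2,2,3,3],
  [2,2,2,2,3,2,2],
  [2,2,3,2,3,3],
  [2,2,3,3,2,2,3],
  [3,2,3,2,2,3,3,3],
  [2,3,2,3,2,3],
  [2,3,3,2,2,2,2],
  [3,3,3,2,3,3,2,3],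
  [2,2,3,2,3,3,3],
  [2,2,2,2,3,2,3,2],
  [2,3,2,3,2,2,2,2],
  [3,3,2,2,3],
  [2,2,2,3],
  [2,3,2,3,3,2,3],
  [2,2,2,2,2,2,2],
  [2,2,2,2,3,3],
  [3,2,3,3,3,3,2,3],
  [3,2,2,3,2,2,2],
  [2,3,3,3,2,3,3,3,2],
  [3,3,2],
  [3,2,2,3,3,3],
  [2,3,3,3,3,3,2],
  [2,2,3,2,2,2],
  [2,2,2,2,3,3,3],
  [2,3,3,3,2,3],
  [3,3,3,2,2,3,2,3],
  [2,2,2,3,3,2,2,3],
  [3,2,3],
  [2,2],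
  [2,3,3,3,2,3,3,2],
  [2,3,3,2,2,3,2],
  [3,3,3,2],
  [2,2,3,2,2],
  [3,2,3,2,3,3,2,3],
  [2,2,2,3,2,3,2],
  [3],
  [3,3],
  [3,3,2,2,2,2,2],
  [3,3,2,3,3,2,2],
  [3,2,2,3],
  [3,2,2,3,3],
  [2,3,3],
  [3,3,3,2,3],
  [3,3,3,3,3,3,2],
  [2,2,2,3,3,2],
  [3,2,3,2,2,3],
  [3,3,2,2,2,2],
  [2,2,3,3,3],
  [3,2,3,2,3,3],
  [2,3,3,3,2,3,2,2,2],
  [3,2,3,2,3],
  [3,2,3,3,3,2],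
  [3,3,3,3,2,3],
  [3,3,2,3,2,2,3],
  [3,3,3,3,3,3,3,2],
  [2,3,3,3],
  [2,3,2,2,2,3],
  [3,2,3,2,3,2,2,2,2],
  [3,3,2,3,2,2,2],
  [2,3,3,2,3],
  [3,3,2,3,2,2,2,3],
  [3,2,2,3,2,3,2],
  [3,2,2,2,3,2,3,2],
  [3,3,2,3,2,3],
  [3,2,3,3,3,2,3],
  [3,2,2,2,3,3,3],
  [3,3,3,2,3,3,2],
  [3,2,2,2,3,2],
  [2,3,3,3,3],
  [2,2,2,3,2,2,3,2,3,2],
  [3,3,3,2,2,2,2,2],
  [2,2,3],
  [3,2,3,2,2,2,2],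
  [3,2,3,3,2,3],
  [3,2,3,3,2,2],
  [3,2,3,2,2,2],
  [2,2,3,3,3,2,3,2,2,2],
  [3,2,2,2,2,2],
  [2,2,2,3,2],
  [2,3,3,2,2,2,3,2,2],
  [3,3,2,3,3,2],
  [3,3,2,3,3,2,3],
  [3,2,2,3,2],
  [2,3,2],
  [2,2,2,3,3,3],
  [3,3,3,2,3,2,2,2],
  [2,3,2,2],
  [2,2,2,2],
  [2,3,2,2,2,3,3,3,2],
  [2,3,2,2,3,3,3,2,3],
  [2,2,3,3,2,3,2,3],
  [3,3,2,3,2,2],
  [2,2,2,3,2,2],
  [2,2,3,3,2,3,2],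
  [3,3,2,3,3,3,2],
  [2,2,3,2,2,3,2],
  [3,3,2,2,2,3,2,3,3],
  [3,3,2,3,2,2,2,2],
  [3,3,2,3,2,3,3],
  [2,2,3,2,3,2],
  [2,3,2,3,2],
  [2,3,2,3,3,2,2],
  [2,2,3,2],
  [3,2,2,3,2,3],
  [3,3,2,2,3,2,3],
  [3,3,2,2,2,3,3],
  [3,3,2,2,3,2]]

/-- Words moving the point `40`, sorted by the image. -/
def chainC : List (List Nat) := [
  [],
  [5,5,5],
  [5,5,4,4,4,4],
  [4,5,5,5,4],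
  [4,4,5,5,5],
  [4,5,4,4],
  [4,4,4,4,4,4],
  [4,4,5],
  [4,4],
  [5,5,5,4,4],
  [4,4,4,4],
  [5,5,5,4,4,4,4],
  [5,5,4,4],
  [4,4,4,5,5,5,4],
  [5,4,4,4,4],
  [4,5,5,5,4,4],
  [5],
  [4,4,4,5],
  [4,4,5,5],
  [4,5,4,4,4],
  [5,5],
  [5,4,4,4,5],
  [5,4,4],
  [4,4,4,5,5,5],
  [4,4,4,5,4],
  [5,4,4,4],
  [4,4,4,4,4,4,4],
  [4,5,4,4,4,4,4],
  [4,5,5,5,4,4,4],
  [4,5,4],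
  [5,5,5,4,4,4],
  [4,5,5],
  [5,5,4,4,4],
  [4,4,5,4],
  [4,4,5,5,5,4],
  [4,4,4],
  [5,4,4,4,5,5],
  [4,4,4,4,4],
  [4,5],
  [5,5,4],
  [4,4,4,5,5],
  [4,5,4,4,4,4],
  [4],
  [4,5,5,5],
  [5,5,5,4],
  [5,4,4,4,4,4],
  [5,4],
  [5,5,4,4,4,5]]

/-- The images. -/
def chainImgs : List (List Nat) := [
  [0,1,2,3,4,5,6,7,8,9,10,11,12,13,14,15,16,17,18,19,20,21,22,23,24,25,26,27,28,29,30,31,32,33,34,35,36,37,38,39,40,41,42,43,44,45,46,47,48,49,50,51,52,53,54,55,56,57,58,59,60,61,62,63,64,65,66,67,68,69,70,71,72,73,74,75,76,77,78,79,80,81,82,83,84,85,86,87,88,89,90,91,92,93,94,95,96,97,98,99,100,101,102,103,104,105,106,107,108,109,110,111,112,113,114,115,116,117,118,119,120,121,122,123,124,125,126,127,128,129,130,131,132,133,134,13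5,136,137,138,139,140,141,142,143,144,145,146,147,148,149,150,151,152,153,154,155,156,157,158,159,160,161,162,163,164,165,166,167,168,169,170,171,172,173,174,175,176,177,178,179,180,181,182,183,184,185,186,187,188,189,190,191,192,193,194,195,196,197,198,199,200,201,202,203,204,205,206,207,208,209,210,211,212,213,214,215,216,217,218,219,220,221,222,223,224,225,226,227,228,229,230,231,232,233,234,235,236,237,238,239,240,241,242,243,244,245,246,247,248,249,250,251,252,253,254,255,256,257,258,259,260,261,262,263,264,265,266,267,268,269,270,271,272,273,274,275,276,277,278,279],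
  [10,11,12,13,14,16,17,18,19,20,22,23,24,25,26,27,28,29,30,31,32,33,35,36,37,38,39,40,41,42,43,44,45,46,48,49,50,51,52,54,55,56,57,58,59,60,61,62,63,65,66,67,68,69,70,71,72,73,75,76,77,78,79,80,81,82,83,84,85,86,88,89,90,91,92,93,94,95,96,98,99,100,101,102,103,105,106,107,108,109,110,111,113,114,115,116,117,118,119,120,122,123,124,125,126,127,128,129,130,131,132,133,134,135,137,138,139,141,142,143,144,145,146,147,148,149,150,151,152,153,154,155,157,158,159,160,161,162,164,165,166,167,168,169,170,171,172,173,174,175,177,178,179,180,181,182,183,184,186,187,188,189,190,191,192,193,194,195,196,198,199,200,201,202,204,205,206,207,208,209,210,212,213,214,215,216,218,219,220,222,223,224,225,226,227,228,229,230,231,232,233,234,235,236,237,238,239,240,241,242,243,244,245,246,247,248,249,250,251,253,254,255,256,257,258,260,261,264,265,266,267,268,269,270,271,272,273,274,275,276,277,278,279],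
  [40,49,51,57,62,69,70,76,82,88,93,98,100,108,113,115,123,125,132,135,141,149,151,158,160,170,171,181,188,191,209,212,215,218,226,231,233,235,242,243,250,256,260,261,264,267,270,279]]

end Cfsg.Agent.McLU43
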